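import Cfsg.Agent.Lib.Presented.HNOut.Images

/-! The candidates for the image of the fourth generator. -/
set_option autoImplicit false
set_option maxRecDepth 8000

namespace CfsgLib.Presented.HNOut

theorem fixOK_all : ∀ r ∈ fixWords, fixOK r = true := by
  have h : fixWords.all fixOK = true := by decide +kernel
  exact fun r hr => List.all_eq_true.1 h r hr

end CfsgLib.Presented.HNOut
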