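import Mathlib.Data.Nat.Notation

/-! Data: words for the cosets that can be fixed by the generators commuting with the fourth one. -/
set_option autoImplicit false

namespace CfsgLib.Presented.HNOut

/-- points of the action of degree 1408 fixed by those generators, as words from the base point -/
def smallFix : List (List ℕ) := [[], [0, 0], [1], [0]]

/-- words for the fixed cosets -/
def fixWords : List (List ℕ) := [] :: smallFix.map fun w => w ++ [6]

end CfsgLib.Presented.HNOut
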