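import Cfsg.Agent.Lib.Presented.HNOut.GraphCent
import Cfsg.Agent.Lib.Presented.HNxyz.SimpleOfIndex
import Cfsg.Agent.Lib.Presented.HNIndex.Upper
import Mathlib.GroupTheory.GroupAction.Quotient

/-!
With the index known, the nine orbits of the subgroup on x, y, z on its cosets have exactly the recorded sizes.
All but the trivial one have length divisible by eleven and no union containing the trivial one has length
dividing the index: so the centralisers of the element of order eleven and of the central involution lie in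
the subgroup.
-/
set_option autoImplicit false
set_option maxRecDepth 8000

namespace CfsgLib.Presented.HNOut

open HNxyz
open HNIndex (X P mem_M M_eq orbit_le sizes x0)

/-- the orbit of a named coset -/
def orbI (i : Fin 9) : Set X := Set.range fun n : T => psi n • HNIndex.P i

theorem exists_orbI (q : X) : ∃ i : Fin 9, q ∈ orbI i := by
  have h : q ∈ HNIndex.M := M_eq ▸ Set.mem_univ q
  obtain ⟨i, hi, n, e⟩ := mem_M.1 h
  exact ⟨⟨i, hi⟩, n, e⟩

theorem P_zero : HNIndex.P 0 = x0 := by
  show evW HNIndex.evH (HNIndexEvents.gw.getD 0 []) • x0 = x0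
  rw [show HNIndexEvents.gw.getD 0 [] = [] from rfl, evW_nil, one_smul]

section

variable (hidx : N.index = 1539000)

include hidx

theorem finite_X : Finite X := Nat.finite_of_card_ne_zero (by
  rw [show Nat.card X = N.index from rfl, hidx]; norm_num)

/-- each orbit has the recorded size, and they are disjoint -/
theorem orbit_exact : (∀ i : Fin 9, (orbI i).ncard = sizes.getD i 0) ∧
    ∀ i j : Fin 9, ∀ q, q ∈ orbI i → q ∈ orbI j → i = j := by
  classical
  haveI := finite_X hidx
  let f : (Σ i : Fin 9, orbI i) → X := fun s => s.2.1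
  have hf : Function.Surjective f := fun q => by
    obtain ⟨i, hi⟩ := exists_orbI q
    exact ⟨⟨i, q, hi⟩, rfl⟩
  have hsum : Nat.card (Σ i : Fin 9, orbI i) = ∑ i : Fin 9, (orbI i).ncard := by
    rw [Nat.card_sigma]
    exact Finset.sum_congr rfl fun i _ => Nat.card_coe_set_eq _
  have hle : ∀ i : Fin 9, (orbI i).ncard ≤ sizes.getD i 0 := fun i => orbit_le i.2
  have htot : ∑ i : Fin 9, sizes.getD i 0 = 1539000 := by decide +kernel
  have hX : Nat.card X = 1539000 := hidx
  have h1 : Nat.card X ≤ ∑ i : Fin 9, (orbI i).ncard := hsum ▸ Nat.card_le_card_of_surjective f hf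
  have h2 : ∑ i : Fin 9, (orbI i).ncard = ∑ i : Fin 9, sizes.getD i 0 :=
    le_antisymm (Finset.sum_le_sum fun i _ => hle i) (by rw [htot, ← hX]; exact h1)
  refine ⟨fun i => (Finset.sum_eq_sum_iff_of_le (fun i _ => hle i)).1 h2 i (Finset.mem_univ _), ?_⟩
  have hinj : Function.Injective f := by
    haveI := Fintype.ofFinite X
    refine (hf.bijective_of_nat_card_le ?_).1
    rw [hsum, h2, htot, hX]
  intro i j q hi hj
  exact congrArg Sigma.fst (hinj (a₁ := ⟨i, q, hi⟩) (a₂ := ⟨j, q, hj⟩) rfl)

theorem mem_N_of_fixA {g : Cfsg.Spor.HN} (hfixq : psi elA • (g : X) = (g : X)) : g ∈ N := by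
  haveI := finite_X hidx
  haveI := finite_T
  set q : X := (g : X) with hq
  have hfix : psi elA • q = q := hfixq
  obtain ⟨i, hi⟩ := exists_orbI q
  by_cases h0 : i = 0
  · subst h0
    have h1 : (orbI 0).ncard = 1 := (orbit_exact hidx).1 0
    obtain ⟨p, hp⟩ := Set.ncard_eq_one.1 h1
    have hx : x0 ∈ orbI 0 := ⟨1, by
      show psi 1 • HNIndex.P 0 = x0
      rw [map_one, one_smul, P_zero]⟩
    rw [hp, Set.mem_singleton_iff] at hi hx
    have e : (g : X) = ((1 : Cfsg.Spor.HN) : X) := hi.trans hx.symm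
    rw [QuotientGroup.eq, mul_one] at e
    exact (Subgroup.inv_mem_iff _).1 e
  · exfalso
    letI : MulAction T X := MulAction.compHom X psi
    have horb : MulAction.orbit T q = orbI i := by
      obtain ⟨n, hn⟩ := hi
      ext r
      constructor
      · rintro ⟨m, rfl⟩
        exact ⟨m * n, by
          show psi (m * n) • HNIndex.P i = psi m • q
          rw [map_mul, mul_smul, ← hn]⟩
      · rintro ⟨m, rfl⟩
        exact ⟨m * n⁻¹, by
          show psi (m * n⁻¹) • q = psi m • HNIndex.P i
          rw [← hn, map_mul, map_inv, mul_smul, inv_smul_smul]⟩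
    have hidx' : (MulAction.stabilizer T q).index = sizes.getD i 0 := by
      rw [MulAction.index_stabilizer, horb, (orbit_exact hidx).1 i]
    have hmem : elA ∈ MulAction.stabilizer T q := hfix
    have h11 : 11 ∣ Nat.card (MulAction.stabilizer T q) := by
      have := orderOf_dvd_natCard (⟨elA, hmem⟩ : MulAction.stabilizer T q)
      rwa [← Subgroup.orderOf_coe, orderOf_elA] at this
    have hs : ∀ i : Fin 9, i ≠ 0 → 11 ∣ sizes.getD i 0 := by decide +kernel
    have hmul := Nat.mul_dvd_mul h11 (hs i h0)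
    rw [← hidx', Subgroup.card_mul_index, HNxyz.card_T] at hmul
    norm_num at hmul

theorem centA_of_index {g : Cfsg.Spor.HN} (hg : g * psi elA = psi elA * g) : g ∈ N := by
  refine mem_N_of_fixA hidx ?_
  rw [MulAction.Quotient.smul_coe, smul_eq_mul, ← hg, QuotientGroup.eq]
  rw [show (g * psi elA)⁻¹ * g = (psi elA)⁻¹ by group]
  exact inv_mem ⟨elA, rfl⟩

theorem simple_of_index : IsSimpleGroup Cfsg.Spor.HN :=
  (isHN_of_index hidx fun g hg => mem_N_of_fixA hidx (by
    rw [MulAction.Quotient.smul_coe, smul_eq_mul, QuotientGroup.eq]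
    rw [show (psi elA * g)⁻¹ * g = (g⁻¹ * psi elA * g)⁻¹ by group]
    exact inv_mem (hg _ ⟨elA, rfl⟩))).1

theorem centSq_of_index (hsimple : IsSimpleGroup Cfsg.Spor.HN) {g : Cfsg.Spor.HN}
    (hg : g * hX ^ 2 = hX ^ 2 * g) : g ∈ N := by
  classical
  haveI := finite_X hidx
  haveI := finite_T
  set H : Subgroup Cfsg.Spor.HN := Subgroup.centralizer {hX ^ 2} with hH
  have hmemH : ∀ a, a ∈ H ↔ a * hX ^ 2 = hX ^ 2 * a := fun a => by
    rw [hH, Subgroup.mem_centralizer_iff]
    simp [eq_comm]
  have hNH : N ≤ H := by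
    rintro _ ⟨t, rfl⟩
    rw [hmemH, ← psi_gens.1, ← map_pow, ← map_mul, ← map_mul, Subgroup.mem_center_iff.1 sq_central t]
  let U : Set X := (fun a : Cfsg.Spor.HN => (a : X)) '' (H : Set Cfsg.Spor.HN)
  have hUmem : ∀ a : Cfsg.Spor.HN, (a : X) ∈ U ↔ a ∈ H := fun a => by
    constructor
    · rintro ⟨b, hb, e⟩
      have := hNH (QuotientGroup.eq.1 e)
      rw [show a = b * (b⁻¹ * a) by group]
      exact mul_mem hb this
    · exact fun h => ⟨a, h, rfl⟩
  let I : Finset (Fin 9) := Finset.univ.filter fun i : Fin 9 => HNIndex.P i ∈ U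
  have hUinv : ∀ (n : T) (q : X), psi n • q ∈ U ↔ q ∈ U := by
    intro n q
    induction q using QuotientGroup.induction_on with
    | _ a =>
      rw [MulAction.Quotient.smul_coe, smul_eq_mul, hUmem, hUmem]
      exact H.mul_mem_cancel_left (hNH ⟨n, rfl⟩)
  have hU : U.ncard = ∑ i ∈ I, sizes.getD i 0 := by
    have e : U = ⋃ i ∈ I, orbI i := by
      ext q
      simp only [Set.mem_iUnion, exists_prop]
      constructor
      · intro hq
        obtain ⟨i, n, hn⟩ := exists_orbI q
        refine ⟨i, Finset.mem_filter.2 ⟨Finset.mem_univ _, ?_⟩, n, hn⟩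
        rw [← hn] at hq
        exact (hUinv n _).1 hq
      · rintro ⟨i, hi, n, rfl⟩
        exact (hUinv n _).2 (Finset.mem_filter.1 hi).2
    rw [e, ← Nat.card_coe_set_eq]
    let f : (Σ i : I, orbI i) → (⋃ i ∈ I, orbI i : Set X) := fun s =>
      ⟨s.2.1, Set.mem_biUnion s.1.2 s.2.2⟩
    have hf : Function.Bijective f := by
      constructor
      · rintro ⟨i, q, hi⟩ ⟨j, r, hj⟩ h
        obtain rfl : q = r := congrArg Subtype.val h
        obtain rfl : i = j := Subtype.ext ((orbit_exact hidx).2 _ _ q hi hj)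
        rfl
      · rintro ⟨q, hq⟩
        simp only [Set.mem_iUnion, exists_prop] at hq
        obtain ⟨i, hi, hq⟩ := hq
        exact ⟨⟨⟨i, hi⟩, q, hq⟩, rfl⟩
    rw [← Nat.card_congr (Equiv.ofBijective f hf), Nat.card_sigma, ← Finset.sum_coe_sort I]
    exact Finset.sum_congr rfl fun i _ => (Nat.card_coe_set_eq _).trans ((orbit_exact hidx).1 i)
  have hUdvd : U.ncard ∣ 1539000 := by
    have e : U.ncard = N.relIndex H := by
      rw [← Nat.card_coe_set_eq, Subgroup.relIndex, Subgroup.index]
      refine (Nat.card_congr (Equiv.ofBijective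
        (fun c : H ⧸ N.subgroupOf H => (⟨Quotient.map' Subtype.val (fun a b h => by
          rw [QuotientGroup.leftRel_apply] at h ⊢; exact h) c, by
            induction c using QuotientGroup.induction_on with
            | _ a => exact ⟨a.1, a.2, rfl⟩⟩ : U)) ⟨?_, ?_⟩)).symm
      · intro c d h
        induction c using QuotientGroup.induction_on with
        | _ a => induction d using QuotientGroup.induction_on with
          | _ b =>
            have h' : ((a : Cfsg.Spor.HN) : X) = ((b : Cfsg.Spor.HN) : X) := congrArg Subtype.val h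
            exact QuotientGroup.eq.2 (Subgroup.mem_subgroupOf.2 (QuotientGroup.eq.1 h'))
      · rintro ⟨_, a, ha, rfl⟩
        exact ⟨((⟨a, ha⟩ : H) : H ⧸ N.subgroupOf H), rfl⟩
    rw [e, ← hidx]
    exact Dvd.intro _ (Subgroup.relIndex_mul_index hNH)
  have h0 : (0 : Fin 9) ∈ I := Finset.mem_filter.2 ⟨Finset.mem_univ _, by
    rw [show ((0 : Fin 9) : ℕ) = 0 from rfl, P_zero]
    exact ⟨1, H.one_mem, rfl⟩⟩
  have hdec : ∀ I : Finset (Fin 9), 0 ∈ I → (∑ i ∈ I, sizes.getD i 0) ∣ 1539000 → I = {0} ∨ I = Finset.univ := by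
    decide +kernel
  have hmemg : (g : X) ∈ U := (hUmem g).2 ((hmemH g).2 hg)
  rcases hdec I h0 (hU ▸ hUdvd) with hI | hI
  · rw [hI, Finset.sum_singleton] at hU
    obtain ⟨p, hp⟩ := Set.ncard_eq_one.1 (hU.trans (by decide : sizes.getD ((0 : Fin 9) : ℕ) 0 = 1))
    have h1 : ((1 : Cfsg.Spor.HN) : X) ∈ U := (hUmem 1).2 H.one_mem
    rw [hp, Set.mem_singleton_iff] at hmemg h1
    have e : (g : X) = ((1 : Cfsg.Spor.HN) : X) := hmemg.trans h1.symm
    rw [QuotientGroup.eq, mul_one] at e
    exact (Subgroup.inv_mem_iff _).1 e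
  · exfalso
    have hall : ∀ a : Cfsg.Spor.HN, a ∈ H := fun a => by
      obtain ⟨i, n, hn⟩ := exists_orbI (a : X)
      rw [← hUmem, ← hn]
      exact (hUinv n _).2 (Finset.mem_filter.1 (hI ▸ Finset.mem_univ i : i ∈ I)).2
    have hc : hX ^ 2 ∈ Subgroup.center Cfsg.Spor.HN :=
      Subgroup.mem_center_iff.2 fun a => (hmemH a).1 (hall a)
    haveI := hsimple
    have htop : Subgroup.center Cfsg.Spor.HN = ⊤ := top_of_sq hc
    haveI : Subsingleton K := subsingleton_of_comm K_perfect fun a b => Subtype.ext (psi_injective (by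
      rw [Subgroup.coe_mul, Subgroup.coe_mul, map_mul, map_mul]
      exact Subgroup.mem_center_iff.1 (htop ▸ Subgroup.mem_top _) _))
    exact sq_ne (Subtype.ext_iff.1 (Subsingleton.elim (⟨gx ^ 2, sq_mem_K⟩ : K) 1))

end

end CfsgLib.Presented.HNOut
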