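import Cfsg.Agent.Lib.Presented.HNOut.OfFacts
import Cfsg.Agent.Lib.Presented.HNOut.Suborbits
import Cfsg.Agent.Lib.Presented.HNOut.FixCheck

/-!
The outer automorphism group of the presented Harada-Norton group has order two, given the index of the
subgroup on x, y, z.
-/
set_option autoImplicit false
set_option maxRecDepth 8000

namespace CfsgLib.Presented.HNOut

open HNxyz
open HNIndex (sizes)

theorem stab_one {n : T} : psi n • HNIndex.P 1 = HNIndex.P 1 → N.index = 1539000 → n ∈ HNIndex.gen HNIndex.cGens := by
  intro hn hidx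
  haveI := finite_T
  haveI := finite_X hidx
  letI : MulAction T HNIndex.X := MulAction.compHom HNIndex.X psi
  have horb : (MulAction.orbit T (HNIndex.P 1)).ncard = 1408 := (orbit_exact hidx).1 1
  have hle : HNIndex.gen HNIndex.cGens ≤ MulAction.stabilizer T (HNIndex.P 1) := by
    intro k hk
    refine MulAction.mem_stabilizer_iff.2 ?_
    show psi k • HNIndex.P 1 = HNIndex.P 1
    have e1 : HNIndex.P 1 = HNIndex.evH 6 • HNIndex.x0 := by
      show evW HNIndex.evH (HNIndexEvents.gw.getD 1 []) • HNIndex.x0 = _
      rw [show HNIndexEvents.gw.getD 1 [] = [6] from rfl, evW_cons, evW_nil, mul_one]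
    rw [e1, smul_smul, (HNIndex.cW_comm_T hk).eq, mul_smul]
    congr 1
    rw [HNIndex.x0, MulAction.Quotient.smul_coe, smul_eq_mul, mul_one, QuotientGroup.eq, mul_one]
    exact inv_mem ⟨k, rfl⟩
  have hidxS : (MulAction.stabilizer T (HNIndex.P 1)).index = 1408 := by
    rw [MulAction.index_stabilizer, horb]
  have hcard := (MulAction.stabilizer T (HNIndex.P 1)).card_mul_index
  rw [hidxS, HNxyz.card_T] at hcard
  have h := HNIndex.chainC_ok
  simp only [Bool.and_eq_true] at h
  have hC := HNIndex.levProd_le _ _ h.1
  rw [Nat.eq_of_beq_eq_true h.2] at hC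
  have he := Subgroup.eq_of_le_of_card_ge hle (by omega)
  rw [he]
  exact hn

theorem smallFix_ok : ((List.range 1408).all fun i =>
    ((List.range 4).any fun q => !Nat.beq (Vec.netPerm (HNIndexSmall.rep.netW (HNIndex.cWords.getD q [])) i) i) ||
      smallFix.any fun w => Nat.beq (Vec.netPerm (HNIndexSmall.rep.netW w) HNIndexSmall.base) i) = true := by
  decide +kernel

theorem fixes_listed (hidx : N.index = 1539000) : FixesListed := by
  intro q hq
  haveI := finite_T
  haveI := finite_X hidx
  obtain ⟨i, n, hn⟩ := exists_orbI q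
  have hsize : sizes.getD (i : ℕ) 0 ≤ 1408 := by
    letI : MulAction T HNIndex.X := MulAction.compHom HNIndex.X psi
    have horb : MulAction.orbit T (q : HNIndex.X) = orbI i := by
      ext r
      constructor
      · rintro ⟨m, rfl⟩
        exact ⟨m * n, by
          show psi (m * n) • HNIndex.P i = psi m • q
          rw [map_mul, mul_smul, ← hn]⟩
      · rintro ⟨m, rfl⟩
        exact ⟨m * n⁻¹, by
          show psi (m * n⁻¹) • q = psi m • HNIndex.P i
          rw [← hn, map_mul, map_inv, mul_smul, inv_smul_smul]⟩
    have hle : HNIndex.gen HNIndex.cGens ≤ MulAction.stabilizer T (q : HNIndex.X) := fun k hk =>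
      MulAction.mem_stabilizer_iff.2 (hq k hk)
    rw [← (orbit_exact hidx).1 i, ← horb, ← MulAction.index_stabilizer]
    have hd := Subgroup.index_dvd_of_le hle
    have hpos : 0 < (HNIndex.gen HNIndex.cGens).index := Nat.pos_of_ne_zero Subgroup.index_ne_zero_of_finite
    refine (Nat.le_of_dvd hpos hd).trans ?_
    have hcard := (HNIndex.gen HNIndex.cGens).card_mul_index
    rw [HNxyz.card_T] at hcard
    have h := HNIndex.chainC_ok
    simp only [Bool.and_eq_true] at h
    have hC := HNIndex.levProd_le _ _ h.1
    rw [Nat.eq_of_beq_eq_true h.2] at hC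
    by_contra hlt
    rw [not_le] at hlt
    have := Nat.mul_le_mul hC hlt
    omega
  have hcases : ∀ i : Fin 9, sizes.getD (i : ℕ) 0 ≤ 1408 → i = 0 ∨ i = 1 := by decide +kernel
  rcases hcases i hsize with rfl | rfl
  · refine ⟨[], List.mem_cons_self, ?_⟩
    have h1 : psi n • HNIndex.P ((0 : Fin 9) : ℕ) = HNIndex.x0 := by
      rw [show ((0 : Fin 9) : ℕ) = 0 from rfl, P_zero, HNIndex.x0, MulAction.Quotient.smul_coe, smul_eq_mul, mul_one,
        QuotientGroup.eq, mul_one]
      exact inv_mem ⟨n, rfl⟩
    rw [← hn]
    exact h1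
  · have hfix : ∀ k ∈ HNIndex.gen HNIndex.cGens, HNIndex.small k (HNIndex.small n HNIndex.bp) =
        HNIndex.small n HNIndex.bp := by
      intro k hk
      have hmem : n⁻¹ * k * n ∈ HNIndex.gen HNIndex.cGens := by
        refine stab_one ?_ hidx
        have := hq k hk
        rw [← hn, smul_smul, ← map_mul] at this
        rw [mul_assoc, map_mul, mul_smul, map_inv, inv_smul_eq_iff]
        exact this
      have hb : ∀ g ∈ HNIndex.gen HNIndex.cGens, HNIndex.small g HNIndex.bp = HNIndex.bp := by
        intro g hg
        induction hg using Subgroup.closure_induction with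
        | mem y hy =>
          obtain ⟨w, hw, rfl⟩ := hy
          have h := HNIndex.cGens_ok
          simp only [Bool.and_eq_true, List.all_eq_true] at h
          obtain ⟨hlow, hf⟩ := h.2 w hw
          rw [Vec.testBit_applyNet (Rep.netOk_netW HNIndex.small_valid _)] at hf
          change Nat.testBit (1 <<< HNIndexSmall.base) _ = true at hf
          rw [Nat.testBit_shiftLeft, Bool.and_eq_true, decide_eq_true_eq] at hf
          have h1 := VCert.one_bit hf.2
          have h2 := hf.1
          refine Fin.ext ?_
          rw [HNIndex.small_apply hlow]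
          show Vec.netPerm (HNIndexSmall.rep.netW w) HNIndexSmall.base = HNIndexSmall.base
          omega
        | one => simp
        | mul a b _ _ iha ihb => rw [map_mul, Equiv.Perm.mul_apply, ihb, iha]
        | inv a _ ih => rw [map_inv]; exact (Equiv.symm_apply_eq _).2 ih.symm
      have := hb _ hmem
      rw [map_mul, map_mul, Equiv.Perm.mul_apply, Equiv.Perm.mul_apply, map_inv, Equiv.Perm.inv_eq_iff_eq] at this
      exact this
    have hc := HNIndex.cGens_ok
    simp only [Bool.and_eq_true, List.all_eq_true, List.mem_range] at hc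
    have hall := smallFix_ok
    simp only [List.all_eq_true, List.mem_range, Bool.or_eq_true, List.any_eq_true, Bool.not_eq_true'] at hall
    rcases hall _ (HNIndex.small n HNIndex.bp).2 with ⟨p, hp, hne⟩ | ⟨w, hw, hwe⟩
    · exfalso
      have he := List.all_eq_true.1 HNIndex.cGens_comm p (List.mem_range.2 hp)
      have hlen : p < HNIndex.cGens.length := by rw [Nat.eq_of_beq_eq_true hc.1]; exact hp
      have hk : evW HNxyz.ev (HNIndex.cWords.getD p []) ∈ HNIndex.gen HNIndex.cGens := by
        rw [← HNIndex.eqT_spec he, List.getD_eq_getElem _ _ hlen]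
        exact HNIndex.mem_gen (List.getElem_mem hlen)
      have e := congrArg Fin.val (hfix _ hk)
      rw [HNIndex.small_apply (HNIndex.eqT_low he).2] at e
      rw [e, Nat.beq_refl] at hne
      exact absurd hne Bool.noConfusion
    · have hlw : ∀ w ∈ smallFix, HNIndex.low w = true := by decide +kernel
      refine ⟨w ++ [6], List.mem_cons_of_mem _ (List.mem_map.2 ⟨w, hw, rfl⟩), ?_⟩
      have hs : HNIndex.small (evW HNxyz.ev w) HNIndex.bp = HNIndex.small n HNIndex.bp := Fin.ext (by
        rw [HNIndex.small_apply (hlw w hw)]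
        exact Nat.eq_of_beq_eq_true hwe)
      have hm : (evW HNxyz.ev w)⁻¹ * n ∈ HNIndex.gen HNIndex.cGens := HNIndex.stab_eq (by
        rw [map_mul, Equiv.Perm.mul_apply, ← hs, map_inv]
        exact Equiv.symm_apply_apply _ _)
      rw [← hn]
      show psi n • HNIndex.P ((1 : Fin 9) : ℕ) = _
      rw [show n = evW HNxyz.ev w * ((evW HNxyz.ev w)⁻¹ * n) by group, map_mul, mul_smul]
      have hP : psi ((evW HNxyz.ev w)⁻¹ * n) • HNIndex.P 1 = HNIndex.P 1 := by
        have e1 : HNIndex.P 1 = HNIndex.evH 6 • HNIndex.x0 := by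
          show evW HNIndex.evH (HNIndexEvents.gw.getD 1 []) • HNIndex.x0 = _
          rw [show HNIndexEvents.gw.getD 1 [] = [6] from rfl, evW_cons, evW_nil, mul_one]
        rw [e1, smul_smul, (HNIndex.cW_comm_T hm).eq, mul_smul]
        congr 1
        rw [HNIndex.x0, MulAction.Quotient.smul_coe, smul_eq_mul, mul_one, QuotientGroup.eq, mul_one]
        exact inv_mem ⟨_, rfl⟩
      rw [show ((1 : Fin 9) : ℕ) = 1 from rfl, hP]
      show psi (evW HNxyz.ev w) • evW HNIndex.evH (HNIndexEvents.gw.getD 1 []) • HNIndex.x0 = _
      rw [show HNIndexEvents.gw.getD 1 [] = [6] from rfl, HNIndex.x0, smul_smul, MulAction.Quotient.smul_coe,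
        smul_eq_mul, mul_one, HNIndex.psi_evT (hlw w hw), ← evW_append]

/-- **The outer automorphism group has order two.** -/
theorem card_out_of_index (hidx : N.index = 1539000) :
    Nat.card (Cfsg.Out Cfsg.Spor.HN) = 2 := by
  haveI := simple_of_index hidx
  exact card_out_of_facts
    { index := hidx
      simple := simple_of_index hidx
      centSq := fun g hg => centSq_of_index hidx (simple_of_index hidx) hg
      centA := fun g hg => centA_of_index hidx hg
      images := fun t z a b c d => images_of_fixes (fixes_listed hidx) fixOK_all a b c d }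

end CfsgLib.Presented.HNOut
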