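import Cfsg.Agent.Lib.Presented.Vec
import Cfsg.Agent.Lib.Presented.HNOut.GraphData

/-!
An exhaustive search for the permutations of the hundred points keeping the graph and commuting with a
given permutation.
-/
set_option autoImplicit false

namespace CfsgLib.Presented.HNOut

open Vec

/-- the value at `i` of a packed map -/
noncomputable def get8 (A i : ℕ) : ℕ := Nat.mod (Nat.shiftRight A (Nat.mul 8 i)) 256

/-- a row of the graph -/
noncomputable def rowP (i : ℕ) : ℕ := Nat.land (Nat.shiftRight rowsPacked (Nat.mul 128 i)) (ones 100)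

/-- where the point `p` may go -/
noncomputable def cand (p : ℕ) : List (ℕ × ℕ) → ℕ
  | [] => ones 100
  | q :: l => Nat.land (cand p l)
      (cond ((rowP q.1).testBit p) (rowP q.2) (Nat.xor (ones 100) (rowP q.2)))

/-- the pairs forced by `p ↦ j` -/
noncomputable def orb (A : ℕ) : ℕ → ℕ → ℕ → List (ℕ × ℕ)
  | 0, _, _ => []
  | k + 1, i, q => (i, q) :: force (get8 A i) fun i' => force (get8 A q) fun q' => orb A k i' q'

/-- iterate -/
noncomputable def iter8 (A : ℕ) : ℕ → ℕ → ℕ
  | 0, i => i
  | k + 1, i => force (get8 A i) fun i' => iter8 A k i'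

/-- the forced pairs agree among themselves -/
noncomputable def newOK (A p j k : ℕ) : Bool :=
  (!Nat.beq (iter8 A k p) p || Nat.beq (iter8 A k j) j) &&
    (orb A k p j).all fun q => ((rowP p).testBit q.1 == (rowP j).testBit q.2) && (Nat.beq q.1 p || !Nat.beq q.2 j)

/-- the points already assigned -/
noncomputable def covered : List (ℕ × ℕ) → ℕ
  | [] => 0
  | q :: l => Nat.lor (covered l) (Nat.shiftLeft 1 q.1)

/-- the search -/
noncomputable def dfs (A : ℕ) (L : List ℕ) : List (ℕ × ℕ) → List (ℕ × ℕ) → Bool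
  | [], s => Nat.beq (covered s) (ones 100) && L.any fun l => s.all fun q => Nat.beq (get8 l q.1) q.2
  | pk :: rest, s => force (cand pk.1 s) fun c =>
      Nat.blt pk.1 100 && (List.range 100).all fun j =>
        !c.testBit j || !newOK A pk.1 j pk.2 || dfs A L rest (orb A pk.2 pk.1 j ++ s)

variable {A : ℕ} {f : ℕ → ℕ}

/-- what is asked of the permutation -/
structure Good (A : ℕ) (f : ℕ → ℕ) : Prop where
  maps : ∀ i < 100, get8 A i < 100
  lt : ∀ i < 100, f i < 100
  inj : ∀ i < 100, ∀ j < 100, f i = f j → i = j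
  adj : ∀ i < 100, ∀ p < 100, (rowP i).testBit p = (rowP (f i)).testBit (f p)
  comm : ∀ i < 100, f (get8 A i) = get8 A (f i)

theorem iter8_lt (h : Good A f) : ∀ k i, i < 100 → iter8 A k i < 100
  | 0, _, hi => hi
  | k + 1, i, hi => by rw [iter8, force_eq]; exact iter8_lt h k _ (h.maps i hi)

theorem iter8_comm (h : Good A f) : ∀ k i, i < 100 → f (iter8 A k i) = iter8 A k (f i)
  | 0, _, _ => rfl
  | k + 1, i, hi => by
    rw [iter8, force_eq, iter8_comm h k _ (h.maps i hi), h.comm i hi, iter8, force_eq]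

theorem orb_spec (h : Good A f) : ∀ k i, i < 100 → ∀ q ∈ orb A k i (f i), q.1 < 100 ∧ f q.1 = q.2
  | 0, _, _, q, hq => by simp [orb] at hq
  | k + 1, i, hi, q, hq => by
    rw [orb, force_eq, force_eq, ← h.comm i hi, List.mem_cons] at hq
    rcases hq with rfl | hq
    · exact ⟨hi, rfl⟩
    · exact orb_spec h k _ (h.maps i hi) q hq

theorem cand_spec (h : Good A f) {p : ℕ} (hp : p < 100) : ∀ l : List (ℕ × ℕ),
    (∀ q ∈ l, q.1 < 100 ∧ f q.1 = q.2) → (cand p l).testBit (f p) = true
  | [], _ => by rw [cand, testBit_ones]; exact decide_eq_true (h.lt p hp)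
  | q :: l, hl => by
    obtain ⟨hq, hq'⟩ := hl q List.mem_cons_self
    rw [cand, show ∀ a b : ℕ, Nat.land a b = a &&& b from fun _ _ => rfl, Nat.testBit_and,
      cand_spec h hp l (fun r hr => hl r (List.mem_cons_of_mem _ hr)), Bool.true_and, ← hq']
    have e := h.adj q.1 hq p hp
    cases hb : (rowP q.1).testBit p
    · rw [hb] at e
      rw [cond_false, show ∀ a b : ℕ, Nat.xor a b = a ^^^ b from fun _ _ => rfl, Nat.testBit_xor, ← e,
        testBit_ones, decide_eq_true (h.lt p hp)]
      rfl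
    · rw [hb] at e
      rw [cond_true, ← e]

theorem newOK_spec (h : Good A f) {p : ℕ} (hp : p < 100) (k : ℕ) : newOK A p (f p) k = true := by
  simp only [newOK, Bool.and_eq_true, Bool.or_eq_true, Bool.not_eq_true', List.all_eq_true, beq_iff_eq]
  refine ⟨?_, fun q hq => ?_⟩
  · cases hb : Nat.beq (iter8 A k p) p
    · exact Or.inl rfl
    · right
      rw [← iter8_comm h k p hp, Nat.eq_of_beq_eq_true hb]
      exact Nat.beq_refl _
  · obtain ⟨h1, h2⟩ := orb_spec h k p hp q hq
    rw [← h2]
    refine ⟨h.adj p hp q.1 h1, ?_⟩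
    cases hb : Nat.beq (f q.1) (f p)
    · exact Or.inr rfl
    · left
      rw [h.inj q.1 h1 p hp (Nat.eq_of_beq_eq_true hb)]
      exact Nat.beq_refl _

theorem covered_spec {i : ℕ} : ∀ {s : List (ℕ × ℕ)}, (covered s).testBit i = true → ∃ q ∈ s, q.1 = i
  | [], h => by simp [covered] at h
  | q :: l, h => by
    rw [covered, show ∀ a b : ℕ, Nat.lor a b = a ||| b from fun _ _ => rfl, Nat.testBit_or, Bool.or_eq_true] at h
    rcases h with h | h
    · obtain ⟨r, hr, e⟩ := covered_spec h
      exact ⟨r, List.mem_cons_of_mem _ hr, e⟩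
    · refine ⟨q, List.mem_cons_self, ?_⟩
      change Nat.testBit (1 <<< q.1) i = true at h
      rw [Nat.shiftLeft_eq, one_mul, Nat.testBit_two_pow, decide_eq_true_eq] at h
      exact h

/-- Every good permutation is in the list. -/
theorem dfs_spec {L : List ℕ} (h : Good A f) : ∀ (pl s : List (ℕ × ℕ)), dfs A L pl s = true →
    (∀ q ∈ s, q.1 < 100 ∧ f q.1 = q.2) → ∃ l ∈ L, ∀ i < 100, f i = get8 l i
  | [], s, hd, hs => by
    simp only [dfs, Bool.and_eq_true, List.any_eq_true, List.all_eq_true] at hd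
    obtain ⟨hc, l, hl, hall⟩ := hd
    refine ⟨l, hl, fun i hi => ?_⟩
    obtain ⟨q, hq, rfl⟩ := covered_spec (s := s) (i := i) (by
      rw [Nat.eq_of_beq_eq_true hc, testBit_ones]; exact decide_eq_true hi)
    rw [(hs q hq).2, ← Nat.eq_of_beq_eq_true (hall q hq)]
  | pk :: rest, s, hd, hs => by
    simp only [dfs, force_eq, Bool.and_eq_true, List.all_eq_true, List.mem_range, Bool.or_eq_true,
      Bool.not_eq_true', Nat.blt_eq] at hd
    obtain ⟨hp, hd⟩ := hd
    rcases hd (f pk.1) (h.lt _ hp) with (h1 | h1) | h1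
    · rw [cand_spec h hp s hs] at h1; exact absurd h1 Bool.noConfusion
    · rw [newOK_spec h hp] at h1; exact absurd h1 Bool.noConfusion
    · refine dfs_spec h rest _ h1 fun q hq => ?_
      rcases List.mem_append.1 hq with hq | hq
      · exact orb_spec h _ _ hp q hq
      · exact hs q hq

end CfsgLib.Presented.HNOut
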