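import Cfsg.Agent.Lib.Presented.HNxyz.Double
import Cfsg.Agent.Lib.Presented.HNOut.Search

/-!
The centralisers in the group on x, y, z of an element of order eleven and of the second generator.
-/
set_option autoImplicit false
set_option maxRecDepth 8000

namespace CfsgLib.Presented.HNOut

open HNxyz HNPerm Vec

/-- the packed map is the action of the word -/
noncomputable def matchW (w : List ℕ) (M : ℕ) : Bool :=
  w.all (fun y => Nat.blt y 6) &&
    (List.range 100).all (fun i => Nat.blt (get8 M i) 100) &&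
    (slices rep.m).all fun s => force (applyNet (rep.netW w) s) fun v =>
      (List.range 100).all fun i => v.testBit i == s.testBit (get8 M i)

theorem matchW_spec {w : List ℕ} {M : ℕ} (h : matchW w M = true) (i : Fin rep.N) :
    get8 M i = (phi (evW ev w) i : ℕ) := by
  simp only [matchW, force_eq, Bool.and_eq_true, List.all_eq_true, List.mem_range, Nat.blt_eq, beq_iff_eq] at h
  obtain ⟨⟨hw, hlt⟩, hs⟩ := h
  rw [phi_evW hw]
  have hm := (Rep.valid_spec rep_valid).2.1
  refine eq_of_slices (lt_of_lt_of_le (hlt i i.2) hm) (lt_of_lt_of_le (evW (rep.perm rep_valid) w i).2 hm) fun s hsm => ?_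
  rw [← hs s hsm i i.2, testBit_applyNet (Rep.netOk_netW rep_valid w), Rep.netW_perm rep_valid]

theorem rowP_ok : ((List.range 100).all fun i => Nat.beq (rowP i) (adjRows.getD i 0)) = true := by decide +kernel

theorem adj_eq (i j : Fin rep.N) : (rowP i).testBit j = Adj i j := by
  have h := rowP_ok
  simp only [List.all_eq_true, List.mem_range] at h
  rw [Nat.eq_of_beq_eq_true (h i i.2), Adj]

/-- An element commuting with a word has the action of a member of the list. -/
theorem action_mem {w : List ℕ} {M : ℕ} {L : List (List ℕ × ℕ)} {plan : List (ℕ × ℕ)} (hw : matchW w M = true)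
    (hL : (L.all fun l => matchW l.1 l.2) = true) (hd : dfs M (L.map Prod.snd) plan [] = true) {n : T}
    (hc : n * evW ev w = evW ev w * n) : ∃ l ∈ L, phi n = phi (evW ev l.1) := by
  let f : ℕ → ℕ := fun i => if hi : i < 100 then (phi n ⟨i, hi⟩ : ℕ) else i
  have hf : ∀ i : Fin rep.N, f i = (phi n i : ℕ) := fun i => dif_pos i.2
  have hg : Good M f := by
    refine ⟨fun i hi => ?_, fun i hi => ?_, fun i hi j hj e => ?_, fun i hi p hp => ?_, fun i hi => ?_⟩
    · exact matchW_spec hw ⟨i, hi⟩ ▸ (phi _ _).2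
    · exact hf ⟨i, hi⟩ ▸ (phi n _).2
    · rw [hf ⟨i, hi⟩, hf ⟨j, hj⟩] at e
      exact congrArg Fin.val ((phi n).injective (Fin.ext e))
    · rw [hf ⟨i, hi⟩, hf ⟨p, hp⟩, adj_eq ⟨i, hi⟩ ⟨p, hp⟩, adj_eq, adj_phi]
    · have e1 := matchW_spec hw ⟨i, hi⟩
      rw [e1, hf, hf ⟨i, hi⟩, matchW_spec hw, ← Equiv.Perm.mul_apply, ← map_mul, hc, map_mul,
        Equiv.Perm.mul_apply]
  obtain ⟨m, hm, he⟩ := dfs_spec hg plan [] hd (by simp)
  obtain ⟨l, hl, rfl⟩ := List.mem_map.1 hm
  refine ⟨l, hl, Equiv.ext fun i => Fin.ext ?_⟩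
  simp only [List.all_eq_true] at hL
  rw [← hf, he i i.2, matchW_spec (hL l hl)]

theorem lift_of_action {n m : T} (h : phi n = phi m) : n = m ∨ n = m * gx ^ 2 := by
  have hk : m⁻¹ * n ∈ phi.ker := by rw [MonoidHom.mem_ker, map_mul, map_inv, h, inv_mul_cancel]
  rcases mem_ker_cases hk with e | e
  · exact Or.inl (inv_mul_eq_one.1 e).symm
  · exact Or.inr (inv_mul_eq_iff_eq_mul.1 e)

theorem searchA_ok : (matchW wordA mapA && (listA.all fun l => matchW l.1 l.2) &&
    dfs mapA (listA.map Prod.snd) planA []) = true := by decide +kernel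

theorem searchB_ok : (matchW [2] mapB && (listB.all fun l => matchW l.1 l.2) &&
    dfs mapB (listB.map Prod.snd) planB []) = true := by decide +kernel

/-- the centraliser of the element of order eleven -/
theorem cent_A {n : T} (hc : n * evW ev wordA = evW ev wordA * n) :
    ∃ l ∈ listA, n = evW ev l.1 ∨ n = evW ev l.1 * gx ^ 2 := by
  have h := searchA_ok
  simp only [Bool.and_eq_true] at h
  obtain ⟨l, hl, e⟩ := action_mem h.1.1 h.1.2 h.2 hc
  exact ⟨l, hl, lift_of_action e⟩

/-- the centraliser of the second generator -/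
theorem cent_B {n : T} (hc : n * gy = gy * n) :
    ∃ l ∈ listB, n = evW ev l.1 ∨ n = evW ev l.1 * gx ^ 2 := by
  have h := searchB_ok
  simp only [Bool.and_eq_true] at h
  have e0 : evW ev [2] = gy := by simp [evW, ev_vals.2.2.1]
  obtain ⟨l, hl, e⟩ := action_mem h.1.1 h.1.2 h.2 (n := n) (by rw [e0]; exact hc)
  exact ⟨l, hl, lift_of_action e⟩

/-- the element of order eleven -/
noncomputable abbrev elA : T := evW ev wordA

theorem powers_A : listA.map Prod.fst = (List.range 11).map fun k => (List.replicate k wordA).flatten := by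
  decide +kernel

theorem evW_replicate (w : List ℕ) : ∀ k, evW ev ((List.replicate k w).flatten) = evW ev w ^ k
  | 0 => by simp [evW]
  | k + 1 => by rw [List.replicate_succ, List.flatten_cons, evW_append, evW_replicate w k, pow_succ']

theorem halfA : wordA = wordA.take 10 ++ wordA.take 10 := by decide

theorem act_pow_A : (matchW ((List.replicate 11 (wordA.take 10)).flatten) (listA.getD 0 ([], 0)).2) = true := by
  decide +kernel

theorem elA_pow : elA ^ 11 = 1 := by
  have h0 := searchA_ok
  simp only [Bool.and_eq_true, List.all_eq_true] at h0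
  have hmem : ((([] : List ℕ), (listA.getD 0 ([], 0)).2)) ∈ listA := by decide +kernel
  have e : phi (evW ev (wordA.take 10) ^ 11) = phi 1 := by
    rw [← evW_replicate, map_one]
    refine Equiv.ext fun i => Fin.ext ?_
    rw [← matchW_spec act_pow_A, matchW_spec (h0.1.2 _ hmem)]
    simp [evW]
  have hsq : (gx ^ 2 : T) ^ 2 = 1 := by rw [← pow_mul]; exact x_four
  have e2 : elA = evW ev (wordA.take 10) ^ 2 := by rw [elA, pow_two, ← evW_append, ← halfA]
  rw [e2, ← pow_mul, mul_comm, pow_mul]
  rcases lift_of_action e with h | h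
  · rw [h, one_pow]
  · rw [h, one_mul, hsq]

theorem elA_ne : elA ≠ 1 := fun h => by
  have h0 := searchA_ok
  simp only [Bool.and_eq_true] at h0
  have e := matchW_spec h0.1.1 ⟨0, by decide⟩
  rw [← elA, h, map_one] at e
  exact absurd e (by decide +kernel)

theorem orderOf_elA : orderOf elA = 11 :=
  haveI : Fact (Nat.Prime 11) := ⟨by norm_num⟩
  orderOf_eq_prime elA_pow elA_ne

/-- the only involution commuting with the element of order eleven -/
theorem invol_cent_A {n : T} (hc : n * elA = elA * n) (h2 : n ^ 2 = 1) (h1 : n ≠ 1) : n = gx ^ 2 := by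
  obtain ⟨l, hl, e⟩ := cent_A hc
  have hk : l.1 ∈ (List.range 11).map fun k => (List.replicate k wordA).flatten := by
    rw [← powers_A]; exact List.mem_map_of_mem hl
  obtain ⟨k, hk, hke⟩ := List.mem_map.1 hk
  rw [List.mem_range] at hk
  rw [← hke, evW_replicate] at e
  have hsq : (gx ^ 2 : T) ^ 2 = 1 := by rw [← pow_mul]; exact x_four
  have h2' : elA ^ (k * 2) = 1 := by
    rw [pow_mul]
    rcases e with e | e
    · rw [← h2, e]
    · rw [e, Commute.mul_pow (Subgroup.mem_center_iff.1 sq_central _), hsq, mul_one] at h2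
      exact h2
  have hdvd := orderOf_dvd_of_pow_eq_one h2'
  rw [orderOf_elA] at hdvd
  obtain rfl : k = 0 := by omega
  rw [pow_zero, one_mul] at e
  exact e.resolve_left h1

end CfsgLib.Presented.HNOut
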