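import Cfsg.Agent.Lib.Presented.HNOut.Twist
import Cfsg.Agent.Lib.Presented.HNOut.FixData
import Cfsg.Agent.Lib.Presented.HNIndex.Upper

/-!
The possible images of the fourth generator. Such an image t is inverted by the square s of x and commutes
with the four generators in x, y that commute with the fourth generator, so these fix the coset r of its cube and
t is r s r⁻¹ s; the five resulting words are tested in the representation of dimension 133.
-/
set_option autoImplicit false
set_option maxRecDepth 8000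

namespace CfsgLib.Presented.HNOut

open HNxyz MatCheck
open Cfsg.Spor

/-- the first column of the product of the matrices is not the first unit vector -/
noncomputable def notOne (w : List ℕ) : Bool :=
  w.all (fun x => Nat.blt x 8) &&
    mapK (fun i => Nat.pow 0 i) HNMat.idx fun T0 => runK HNMat.gens T0 w fun T =>
      (List.range 133).any fun i => !Nat.beq (T.get i % 11) (cond (Nat.beq i 0) 1 0)

/-- the product of the matrices is the identity -/
noncomputable def isOne (w : List ℕ) : Bool := check 133 11 HNMat.sb HNMat.idx HNMat.gens w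

theorem gens_len : HNMat.gens.length = 8 := rfl

theorem rho_evW {w : List ℕ} (hw : ∀ x ∈ w, x < 8) :
    (rho (evW evHN w) : Matrix (Fin 133) (Fin 133) (ZMod 11)) = (w.map hnMat).prod := by
  have e : rho (evW evHN w) = evW (lettersHN.ev imgHN) w := by
    simp only [evW, map_list_prod, List.map_map]
    exact congrArg List.prod (List.map_congr_left fun x hx => rho_evHN (hw x hx))
  rw [e, evW, ← Units.coeHom_apply, map_list_prod, List.map_map]
  refine congrArg List.prod (List.map_congr_left fun x hx => ?_)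
  have hx8 : x < 8 := hw x hx
  interval_cases x <;> rfl

theorem notOne_spec {w : List ℕ} (h : notOne w = true) : evW evHN w ≠ 1 := by
  simp only [notOne, mapK_eq, runK_eq, Bool.and_eq_true, List.all_eq_true, List.any_eq_true, List.mem_range,
    Nat.blt_eq, Bool.not_eq_true'] at h
  obtain ⟨hlt, i, hi, hne⟩ := h
  intro he
  have hd := mat_data_ok
  simp only [dataOK, Bool.and_eq_true, List.all_eq_true, List.mem_range] at hd
  have h0 : ∀ k : Fin 133, (mapT (fun i => Nat.pow 0 i) HNMat.idx).get k = 0 ^ (k : ℕ) := fun k => by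
    rw [get_mapT, Nat.eq_of_beq_eq_true (hd.1 k k.2)]
    rfl
  obtain ⟨hT, -⟩ := runT_spec (B := 0) mat_data_ok h0 w (fun x hx => gens_len.symm ▸ hlt x hx) ⟨i, hi⟩
  have hcol : (runT HNMat.gens (mapT (fun i => Nat.pow 0 i) HNMat.idx) w).get i =
      natProd 133 HNMat.gens w ⟨i, hi⟩ ⟨0, by norm_num⟩ := by
    refine hT.trans ?_
    rw [Finset.sum_eq_single (⟨0, by norm_num⟩ : Fin 133)]
    · simp
    · intro b _ hb
      rw [zero_pow (fun e => hb (Fin.ext e)), mul_zero]
    · simp
  rw [hcol] at hne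
  have hm := rho_evW hlt
  rw [he, map_one, Units.val_one] at hm
  have hp : (w.map hnMat).prod = (Nat.castRingHom (ZMod 11)).mapMatrix (natProd 133 HNMat.gens w) := by
    rw [natProd, map_list_prod, List.map_map]
    rfl
  rw [hp] at hm
  have hent := congrFun (congrFun hm ⟨i, hi⟩) ⟨0, by norm_num⟩
  rw [RingHom.mapMatrix_apply, Matrix.map_apply, Matrix.one_apply] at hent
  have hmod : natProd 133 HNMat.gens w ⟨i, hi⟩ ⟨0, by norm_num⟩ % 11 = (if i = 0 then 1 else 0) := by
    have h11 : ((natProd 133 HNMat.gens w ⟨i, hi⟩ ⟨0, by norm_num⟩ : ℕ) : ZMod 11) =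
        ((if i = 0 then 1 else 0 : ℕ) : ZMod 11) := by
      by_cases h : i = 0
      · subst h
        simpa using hent.symm
      · rw [if_neg h, Nat.cast_zero]
        rw [if_neg (fun e => h (congrArg Fin.val e))] at hent
        exact hent.symm
    rw [ZMod.natCast_eq_natCast_iff'] at h11
    rw [h11]
    split <;> rfl
  rw [hmod] at hne
  by_cases h : i = 0
  · subst h
    simp at hne
  · have : Nat.beq i 0 = false := Bool.eq_false_iff.2 fun e => h (Nat.eq_of_beq_eq_true e)
    rw [if_neg h, this] at hne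
    simp at hne

theorem goodHN' : lettersHN.A.Good evHN := by
  refine ⟨Letters.ev_eps, fun x hx => ?_⟩
  rcases Nat.eq_or_lt_of_le hx with rfl | hlt
  · rw [show lettersHN.A.invl lettersHN.A.eps = lettersHN.A.eps by decide +kernel,
      show evHN lettersHN.A.eps = 1 from Letters.ev_eps, one_mul]
  · exact Letters.ev_inv lettersHN_valid (Letters.of_sq nodesHN_valid) x hlt

/-- the candidate of a fixed coset -/
noncomputable def tW (r : List ℕ) : List ℕ := r ++ [0, 0] ++ invWord lettersHN.A r ++ [0, 0]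

/-- a candidate is allowed or fails a relation -/
noncomputable def fixOK (r : List ℕ) : Bool :=
  notOne ([1] ++ tW r ++ [0] ++ tW r ++ tW r) ||
    ((notOne (wpow ([4] ++ tW r) 3) || isOne (tW r ++ [7]) || isOne (tW r ++ [6])) &&
      (notOne (wpow ([4, 0, 0] ++ tW r) 3) || isOne (tW r ++ [7, 7]) || isOne (tW r ++ [6, 6])))

theorem ev_words : evW evHN [0] = hX ∧ evW evHN [1] = hX⁻¹ ∧ evW evHN [4] = hZ ∧ evW evHN [6] = hT ∧
    evW evHN [7] = hT⁻¹ ∧ evW evHN [0, 0] = hX ^ 2 := by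
  have h0 : evHN 0 = hX := (evHN_idx .x).1
  have h1 : evHN 1 = hX⁻¹ := (evHN_idx .x).2
  have h4 : evHN 4 = hZ := (evHN_idx .z).1
  have h6 : evHN 6 = hT := (evHN_idx .t).1
  have h7 : evHN 7 = hT⁻¹ := (evHN_idx .t).2
  simp [evW, h0, h1, h4, h6, h7, pow_two]

theorem isOne_spec [IsSimpleGroup Cfsg.Spor.HN] {w : List ℕ} (h : isOne w = true) : evW evHN w = 1 := by
  obtain ⟨hlt, hp⟩ := check_spec mat_data_ok h
  refine rho_injective ?_
  rw [map_one]
  apply Units.ext
  rw [rho_evW (fun x hx => gens_len ▸ hlt x hx), hp, Units.val_one]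

/-- the cosets fixed by the generators commuting with the fourth one are among the listed ones -/
def FixesListed : Prop :=
  ∀ q : Cfsg.Spor.HN ⧸ N, (∀ k ∈ HNIndex.gen HNIndex.cGens, psi k • q = q) →
    ∃ r ∈ fixWords, q = ((evW evHN r : Cfsg.Spor.HN) : Cfsg.Spor.HN ⧸ N)

theorem words_lt : ∀ r ∈ fixWords, ∀ x ∈ r, x < 8 := by decide +kernel

/-- **The images.** -/
theorem images_of_fixes [IsSimpleGroup Cfsg.Spor.HN] (hfix : FixesListed) (hok : ∀ r ∈ fixWords, fixOK r = true)
    {t z : Cfsg.Spor.HN} (htC : ∀ k ∈ HNIndex.gen HNIndex.cGens, Commute t (psi k)) (h5 : t ^ 5 = 1) (hx : hX⁻¹ * t * hX * t ^ 2 = 1)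
    (hzt : (z * t) ^ 3 = 1) :
    (z = hZ → t = hT ∨ t = hT⁻¹) ∧ (z = hZ * hX ^ 2 → t = hT ^ 2 ∨ t = (hT ^ 2)⁻¹) := by
  set s := hX ^ 2 with hs
  have hq : ∀ k ∈ HNIndex.gen HNIndex.cGens, psi k • ((t ^ 3 : Cfsg.Spor.HN) : Cfsg.Spor.HN ⧸ N) =
      ((t ^ 3 : Cfsg.Spor.HN) : Cfsg.Spor.HN ⧸ N) := fun k hk => by
    rw [MulAction.Quotient.smul_coe, smul_eq_mul, QuotientGroup.eq, ← ((htC k hk).pow_left 3).eq]
    rw [show (t ^ 3 * psi k)⁻¹ * t ^ 3 = (psi k)⁻¹ by group]
    exact inv_mem ⟨k, rfl⟩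
  obtain ⟨r, hr, he⟩ := hfix _ hq
  have hn : (evW evHN r)⁻¹ * t ^ 3 ∈ N := QuotientGroup.eq.1 he.symm
  obtain ⟨m, hm⟩ := hn
  have hns : (evW evHN r)⁻¹ * t ^ 3 * s = s * ((evW evHN r)⁻¹ * t ^ 3) := by
    rw [← hm, hs, ← psi_gens.1, ← map_pow, ← map_mul, ← map_mul, Subgroup.mem_center_iff.1 sq_central m]
  have hs2 : s * s = 1 := by
    rw [hs, ← pow_add, ← psi_gens.1, ← map_pow]
    rw [show (2 : ℕ) + 2 = 4 from rfl, x_four, map_one]
  have hinv : s * t = t⁻¹ * s := by
    have c1 : hX⁻¹ * t * hX = (t ^ 2)⁻¹ := eq_inv_of_mul_eq_one_left hx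
    have c2 : (hX ^ 2)⁻¹ * t * hX ^ 2 = t⁻¹ := by
      calc (hX ^ 2)⁻¹ * t * hX ^ 2 = hX⁻¹ * (hX⁻¹ * t * hX) * hX := by simp [pow_two, mul_assoc]
        _ = ((hX⁻¹ * t * hX) * (hX⁻¹ * t * hX))⁻¹ := by
          rw [show ((hX⁻¹ * t * hX) * (hX⁻¹ * t * hX))⁻¹ = hX⁻¹ * (t ^ 2)⁻¹ * hX by group, c1]
        _ = t ^ 4 := by rw [c1]; group
        _ = t⁻¹ := eq_inv_of_mul_eq_one_left (by rw [← pow_succ]; exact h5)
    rw [← hs, inv_eq_of_mul_eq_one_right hs2] at c2
    rw [← c2]
    simp only [mul_assoc]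
    rw [hs2, mul_one]
  have ht3 : s * (t ^ 3)⁻¹ = t ^ 3 * s := by
    have key : ∀ k : ℕ, s * t ^ k = (t ^ k)⁻¹ * s := by
      intro k
      induction k with
      | zero => simp
      | succ k ih =>
        calc s * t ^ (k + 1) = (t ^ k)⁻¹ * (s * t) := by rw [pow_succ, ← mul_assoc, ih, mul_assoc]
          _ = (t ^ k)⁻¹ * t⁻¹ * s := by rw [hinv, ← mul_assoc]
          _ = (t ^ (k + 1))⁻¹ * s := by rw [← mul_inv_rev, ← pow_succ']
    have := key 2
    rw [show t ^ 2 = (t ^ 3)⁻¹ from eq_inv_of_mul_eq_one_left (by rw [← pow_add]; exact h5), inv_inv] at this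
    exact this
  have hform : t = evW evHN (tW r) := by
    rw [tW, evW_append, evW_append, evW_append, evW_invWord goodHN' (fun x hx => (words_lt r hr x hx).le),
      ev_words.2.2.2.2.2, ← hs]
    have e : evW evHN r * s * (evW evHN r)⁻¹ = t ^ 3 * s * (t ^ 3)⁻¹ := by
      calc evW evHN r * s * (evW evHN r)⁻¹
          = evW evHN r * (s * ((evW evHN r)⁻¹ * t ^ 3)) * (t ^ 3)⁻¹ := by group
        _ = evW evHN r * ((evW evHN r)⁻¹ * t ^ 3 * s) * (t ^ 3)⁻¹ := by rw [hns]
        _ = t ^ 3 * s * (t ^ 3)⁻¹ := by group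
    rw [e]
    calc t = t ^ 6 * 1 := by rw [show t ^ 6 = t ^ 5 * t from pow_succ t 5, h5, one_mul, mul_one]
      _ = t ^ 3 * (t ^ 3 * s) * s := by rw [← hs2]; group
      _ = t ^ 3 * (s * (t ^ 3)⁻¹) * s := by rw [ht3]
      _ = t ^ 3 * s * (t ^ 3)⁻¹ * s := by group
  obtain ⟨e0, e1, e4, e6, e7, e00⟩ := ev_words
  have h := hok r hr
  simp only [fixOK, Bool.or_eq_true, Bool.and_eq_true] at h
  rcases h with h | ⟨h1, h2⟩
  · exfalso
    refine notOne_spec h ?_
    rw [evW_append, evW_append, evW_append, evW_append, e1, e0, ← hform, ← hx, pow_two]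
    group
  · have kill : ∀ zw : List ℕ, z = evW evHN zw → notOne (wpow (zw ++ tW r) 3) = true → False := by
      intro zw e hb
      refine notOne_spec hb ?_
      rw [evW_wpow, evW_append, ← e, ← hform, hzt]
    have a66 : evW evHN [6, 6] = hT ^ 2 := by rw [show [6, 6] = [6] ++ [6] from rfl, evW_append, e6, pow_two]
    have a77 : evW evHN [7, 7] = (hT ^ 2)⁻¹ := by
      rw [show [7, 7] = [7] ++ [7] from rfl, evW_append, e7, pow_two, mul_inv_rev]
    have eq_of : ∀ v : List ℕ, isOne (tW r ++ v) = true → t = (evW evHN v)⁻¹ := fun v hv => by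
      have e := isOne_spec hv
      rw [evW_append, ← hform] at e
      exact eq_inv_of_mul_eq_one_left e
    constructor
    · intro hz
      rcases h1 with (h1 | h1) | h1
      · exact (kill [4] (by rw [e4, hz]) h1).elim
      · exact Or.inl (by rw [eq_of _ h1, e7, inv_inv])
      · exact Or.inr (by rw [eq_of _ h1, e6])
    · intro hz
      rcases h2 with (h2 | h2) | h2
      · refine (kill [4, 0, 0] ?_ h2).elim
        rw [show [4, 0, 0] = [4] ++ [0, 0] from rfl, evW_append, e4, e00, hz, hs]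
      · exact Or.inl (by rw [eq_of _ h2, a77, inv_inv])
      · exact Or.inr (by rw [eq_of _ h2, a66])

end CfsgLib.Presented.HNOut
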