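import Cfsg.Agent.Lib.Presented.HNxyz.SimpleOfIndex
import Cfsg.Agent.Lib.Sporadic.HsOutApp
import Cfsg.Prelude.Def_KGroupFacts

/-!
The automorphisms of the group on x, y, z: after an inner automorphism the even subgroup is fixed pointwise,
and the last generator goes to itself or to its product with the central involution.
-/
set_option autoImplicit false
set_option maxRecDepth 8000

namespace CfsgLib.Presented.HNOut

open HNxyz
open scoped commutatorElement

/-- Isomorphic groups have outer automorphism groups of one order. -/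
theorem card_out_transport {G G' : Type} [Group G] [Group G'] (e : G ≃* G') :
    Nat.card (Cfsg.Out G) = Nat.card (Cfsg.Out G') := by
  refine Nat.card_congr (QuotientGroup.congr _ _ (MulAut.congr e) ?_).toEquiv
  ext φ
  simp only [Subgroup.mem_map, MonoidHom.mem_range]
  constructor
  · rintro ⟨_, ⟨g, rfl⟩, rfl⟩
    refine ⟨e g, MulEquiv.ext fun y => ?_⟩
    simp
  · rintro ⟨g, rfl⟩
    refine ⟨_, ⟨e.symm g, rfl⟩, MulEquiv.ext fun y => ?_⟩
    simp

theorem card_mulAut_P : Nat.card (MulAut P) = 88704000 := by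
  have hinj : Function.Injective (MulAut.conj : P →* MulAut P) := by
    rw [injective_iff_map_eq_one]
    intro h hh
    rw [← Subgroup.mem_bot, ← center_P, Subgroup.mem_center_iff]
    intro x
    have := DFunLike.congr_fun hh x
    rw [MulAut.conj_apply, MulAut.one_apply, mul_inv_eq_iff_eq_mul] at this
    exact this.symm
  rw [Subgroup.card_eq_card_quotient_mul_card_subgroup (Cfsg.Inn P),
    ← Nat.card_congr (MonoidHom.ofInjective hinj).toEquiv, card_P,
    show Nat.card (MulAut P ⧸ Cfsg.Inn P) = Nat.card (Cfsg.Out P) from rfl, card_out_transport exists_iso.some,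
    Sporadic.PairOutApps.card_out_sporHS]

theorem K_normal_map : (P.subgroupOf phi.range).Normal := by
  refine ⟨fun a ha g => ?_⟩
  obtain ⟨k, hk, hka⟩ := Subgroup.mem_map.1 (Subgroup.mem_subgroupOf.1 ha)
  obtain ⟨t, ht⟩ := g.2
  refine Subgroup.mem_subgroupOf.2 ⟨t * k * t⁻¹, (inferInstance : K.Normal).conj_mem k hk t, ?_⟩
  rw [map_mul, map_mul, map_inv, ht, hka]
  rfl

theorem sq_map_one : phi (gx ^ 2) = 1 := phi_sq

theorem ker_commutes {c : T} (hc : c ∈ phi.ker) (g : T) : g * c = c * g := by
  rcases mem_ker_cases hc with rfl | rfl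
  · rw [mul_one, one_mul]
  · exact Subgroup.mem_center_iff.1 sq_central g

/-- maps agreeing on the even subgroup up to the kernel of the action agree on it -/
theorem eq_on_K {f h : T →* T} (e : ∀ k ∈ K, phi (f k) = phi (h k)) : ∀ k ∈ K, f k = h k := by
  let d : K →* T :=
    { toFun := fun k => (h k)⁻¹ * f k
      map_one' := by simp
      map_mul' := fun a b => by
        have hc : (h a)⁻¹ * f a ∈ phi.ker := by
          rw [MonoidHom.mem_ker, map_mul, map_inv, e a a.2, inv_mul_cancel]
        simp only [Subgroup.coe_mul, map_mul, mul_inv_rev]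
        calc (h b)⁻¹ * (h a)⁻¹ * (f a * f b) = (h b)⁻¹ * ((h a)⁻¹ * f a) * f b := by group
          _ = ((h a)⁻¹ * f a) * (h b)⁻¹ * f b := by rw [ker_commutes hc]
          _ = _ := mul_assoc _ _ _ }
  have hd : ∀ k : K, d k ∈ phi.ker := fun k => by
    show phi ((h k)⁻¹ * f k) = 1
    rw [map_mul, map_inv, e k k.2, inv_mul_cancel]
  have htriv : commutator K ≤ d.ker := by
    rw [commutator_def, Subgroup.commutator_le]
    intro a _ b _
    rw [MonoidHom.mem_ker, map_commutatorElement, commutatorElement_eq_one_iff_mul_comm]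
    exact ker_commutes (hd b) (d a)
  rw [K_perfect] at htriv
  intro k hk
  exact (inv_mul_eq_one.1 (MonoidHom.mem_ker.1 (htriv (Subgroup.mem_top (⟨k, hk⟩ : K))))).symm

/-- an automorphism keeps the even subgroup -/
theorem aut_K (α : MulAut T) {k : T} (hk : k ∈ K) : α k ∈ K := by
  have h : K ≤ (pi0.comp α.toMonoidHom).ker := by
    refine K_le_derived.trans (Subgroup.commutator_le.2 fun a _ b _ => ?_)
    rw [MonoidHom.mem_ker, map_commutatorElement]
    exact commutatorElement_eq_one_iff_mul_comm.2 (mul_comm _ _)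
  exact h hk

/-- the action of the conjugations on the even image -/
noncomputable def conjP : phi.range →* MulAut P where
  toFun g :=
    { toFun := fun p => ⟨g.1 * p.1 * g.1⁻¹, Subgroup.mem_subgroupOf.1
        (K_normal_map.conj_mem (⟨p.1, P_le p.2⟩ : phi.range) p.2 g)⟩
      invFun := fun p => ⟨g.1⁻¹ * p.1 * g.1, by
        have := Subgroup.mem_subgroupOf.1 (K_normal_map.conj_mem (⟨p.1, P_le p.2⟩ : phi.range) p.2 g⁻¹)
        simpa using this⟩
      left_inv := fun p => Subtype.ext (by simp [mul_assoc])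
      right_inv := fun p => Subtype.ext (by simp [mul_assoc])
      map_mul' := fun p q => Subtype.ext (by simp [mul_assoc]) }
  map_one' := MulEquiv.ext fun p => Subtype.ext (by simp)
  map_mul' g h := MulEquiv.ext fun p => Subtype.ext (by simp [mul_assoc])

theorem conjP_apply (g : phi.range) (p : P) : (conjP g p : Equiv.Perm (Fin HNPerm.rep.N)) = g.1 * p.1 * g.1⁻¹ := rfl

theorem conjP_injective : Function.Injective conjP := by
  rw [injective_iff_map_eq_one]
  rintro ⟨_, t, rfl⟩ h
  apply Subtype.ext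
  show phi t = 1
  have hp : ∀ k ∈ K, phi ((MulAut.conj t).toMonoidHom k) = phi ((MonoidHom.id T) k) := by
    intro k hk
    have := congrArg (fun f : MulAut P => ((f ⟨phi k, Subgroup.mem_map_of_mem _ hk⟩ : P) : Equiv.Perm (Fin HNPerm.rep.N))) h
    simpa [conjP_apply] using this
  have hc := eq_on_K hp
  have ht : t ∈ K := mem_K_of_commute fun a ha => mul_inv_eq_iff_eq_mul.1 (hc a ha)
  have hcen : sig ⟨t, ht⟩ ∈ Subgroup.center P := by
    rw [Subgroup.mem_center_iff]
    intro p
    obtain ⟨k, rfl⟩ := sig_surj p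
    rw [← map_mul, ← map_mul]
    exact congrArg sig (Subtype.ext (mul_inv_eq_iff_eq_mul.1 (hc k k.2)).symm)
  rw [center_P, Subgroup.mem_bot] at hcen
  exact congrArg Subtype.val hcen

theorem conjP_surjective : Function.Surjective conjP := by
  have hcard : Nat.card phi.range = Nat.card (MulAut P) := by rw [card_range, card_mulAut_P]
  haveI : Finite (MulAut P) := Nat.finite_of_card_ne_zero (by rw [card_mulAut_P]; norm_num)
  exact (conjP_injective.bijective_of_nat_card_le hcard.ge).2

/-- **Normal form** of an automorphism. -/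
theorem aut_normal_form (α : MulAut T) (hs : α (gx ^ 2) = gx ^ 2) :
    ∃ n : T, n * α gx * n⁻¹ = gx ∧ n * α gy * n⁻¹ = gy ∧
      (n * α gz * n⁻¹ = gz ∨ n * α gz * n⁻¹ = gz * gx ^ 2) := by
  haveI := finite_T
  have hkill : sig.ker ≤ (sig.comp ((α.toMonoidHom.comp K.subtype).codRestrict K fun k => aut_K α k.2)).ker := by
    intro a ha
    rw [sig_ker] at ha
    refine MonoidHom.mem_ker.2 (Subtype.ext ?_)
    show phi (α a.1) = 1
    rcases mem_ker_cases ha with e | e
    · rw [show a.1 = 1 from e, map_one, map_one]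
    · rw [show a.1 = gx ^ 2 from e, hs, sq_map_one]
  let β : P →* P := sig.liftOfSurjective sig_surj ⟨_, hkill⟩
  have hβ : ∀ k : K, β (sig k) = sig ⟨α k.1, aut_K α k.2⟩ := fun k =>
    sig.liftOfRightInverse_comp_apply _ _ ⟨_, hkill⟩ k
  have hinj : Function.Injective β := by
    rw [injective_iff_map_eq_one]
    intro p hp
    obtain ⟨k, rfl⟩ := sig_surj p
    rw [hβ] at hp
    have hk : α k.1 ∈ phi.ker := congrArg Subtype.val hp
    refine Subtype.ext ?_
    show phi k.1 = 1
    rcases mem_ker_cases hk with e | e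
    · rw [← map_one α] at e
      rw [α.injective e, map_one]
    · rw [← hs] at e
      rw [α.injective e, sq_map_one]
  obtain ⟨g, hg⟩ := conjP_surjective (MulEquiv.ofBijective β (Finite.injective_iff_bijective.1 hinj))
  obtain ⟨t, ht⟩ := g.2
  refine ⟨t⁻¹, ?_⟩
  let f : T →* T := (MulAut.conj t⁻¹).toMonoidHom.comp α.toMonoidHom
  have hfix : ∀ k ∈ K, f k = (MonoidHom.id T) k := by
    refine eq_on_K fun k hk => ?_
    have e := congrArg (fun F : MulAut P => ((F (sig ⟨k, hk⟩) : P) : Equiv.Perm (Fin HNPerm.rep.N))) hg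
    simp only [MulEquiv.ofBijective_apply, hβ, conjP_apply] at e
    show phi (t⁻¹ * α k * t⁻¹⁻¹) = phi k
    rw [map_mul, map_mul, map_inv, map_inv, map_inv, inv_inv, ht]
    change g.1 * phi k * g.1⁻¹ = phi (α k) at e
    rw [← e]
    simp [mul_assoc]
  refine ⟨hfix gx gx_mem, hfix gy gy_mem, ?_⟩
  change f gz = gz ∨ f gz = gz * gx ^ 2
  have hcomm : ∀ a ∈ K, gz⁻¹ * f gz * a = a * (gz⁻¹ * f gz) := by
    intro a ha
    have h1 := hfix _ ((inferInstance : K.Normal).conj_mem a ha gz)
    simp only [map_mul, map_inv, MonoidHom.id_apply] at h1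
    have h2 : f a = a := hfix a ha
    rw [h2] at h1
    calc gz⁻¹ * f gz * a = gz⁻¹ * (f gz * a * (f gz)⁻¹) * f gz := by group
      _ = gz⁻¹ * (gz * a * gz⁻¹) * f gz := by rw [h1]
      _ = a * (gz⁻¹ * f gz) := by group
  have hmem := mem_K_of_commute hcomm
  have hcen : (⟨_, hmem⟩ : K) ∈ sig.ker := center_K ▸ Subgroup.mem_center_iff.2 fun a =>
    Subtype.ext (hcomm a a.2).symm
  rw [sig_ker] at hcen
  rcases mem_ker_cases hcen with e | e
  · exact Or.inl (inv_mul_eq_one.1 e).symm
  · exact Or.inr (inv_mul_eq_iff_eq_mul.1 e)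

end CfsgLib.Presented.HNOut
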