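import Cfsg.Agent.Lib.Presented.HNOut.Inner
import Cfsg.Agent.Lib.Schur.OutRigid

/-!
The twist of the presented Harada-Norton group: x and y are fixed, z goes to its product with the square of x,
and t goes to its square. It is checked in the faithful representation of dimension 133.
-/
set_option autoImplicit false
set_option maxRecDepth 8000

namespace CfsgLib.Presented.HNOut

open HNxyz MatCheck
open Cfsg.Spor

/-- the substitution on letters -/
def sub : ℕ → List ℕ
  | 4 => [4, 0, 0]
  | 5 => [1, 1, 5]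
  | 6 => [6, 6]
  | 7 => [7, 7]
  | n => [n]

/-- values of the letters in the presented group -/
noncomputable abbrev evHN : ℕ → Cfsg.Spor.HN :=
  lettersHN.ev fun g => (PresentedGroup.of g : Cfsg.Spor.HN)

/-- the images of the generators -/
noncomputable def imgTwist : HN.Gen → Cfsg.Spor.HN
  | .x => hX
  | .y => hY
  | .z => hZ * hX ^ 2
  | .t => hT ^ 2

theorem twist_mat_ok : ((lettersHN.extraWords HN.extra).all fun w =>
    check 133 11 HNMat.sb HNMat.idx HNMat.gens (w.flatMap sub)) = true := by decide +kernel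

theorem evHN_idx (g : HN.Gen) : evHN (idxHN g) = PresentedGroup.of g ∧
    evHN (lettersHN.A.invl (idxHN g)) = (PresentedGroup.of g : Cfsg.Spor.HN)⁻¹ :=
  Letters.ev_idx lettersHN_valid (Letters.of_sq nodesHN_valid) (fullHN g).1 (fullHN g).2

theorem imgHN_idx (g : HN.Gen) : lettersHN.ev imgHN (idxHN g) = imgHN g ∧
    lettersHN.ev imgHN (lettersHN.A.invl (idxHN g)) = (imgHN g)⁻¹ :=
  Letters.ev_idx lettersHN_valid (fun g hg => absurd hg (List.not_mem_nil)) (fullHN g).1 (fullHN g).2

theorem letters_cover : ∀ x < 8, ∃ g ∈ [HN.Gen.x, .y, .z, .t], x = idxHN g ∨ x = lettersHN.A.invl (idxHN g) := by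
  decide +kernel

theorem rho_evHN {x : ℕ} (hx : x < 8) : rho (evHN x) = lettersHN.ev imgHN x := by
  obtain ⟨g, -, rfl | rfl⟩ := letters_cover x hx
  · rw [(evHN_idx g).1, (imgHN_idx g).1]
    exact PresentedGroup.toGroup.of imgHN_kills
  · rw [(evHN_idx g).2, (imgHN_idx g).2, map_inv]
    exact congrArg Inv.inv (PresentedGroup.toGroup.of imgHN_kills)

theorem evW_sub {G : Type*} [Group G] (e : ℕ → G) : ∀ w : List ℕ,
    evW e (w.flatMap sub) = evW (fun x => evW e (sub x)) w
  | [] => rfl
  | x :: w => by rw [List.flatMap_cons, evW_append, evW_sub e w, evW_cons]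

theorem ev_twist {x : ℕ} (hx : x < 8) : lettersHN.ev imgTwist x = evW evHN (sub x) := by
  have h : ∀ g, evHN (idxHN g) = PresentedGroup.of g ∧
      evHN (lettersHN.A.invl (idxHN g)) = (PresentedGroup.of g : Cfsg.Spor.HN)⁻¹ := fun g =>
    Letters.ev_idx lettersHN_valid (Letters.of_sq nodesHN_valid) (fullHN g).1 (fullHN g).2
  have h' : ∀ g, lettersHN.ev imgTwist (idxHN g) = imgTwist g ∧
      lettersHN.ev imgTwist (lettersHN.A.invl (idxHN g)) = (imgTwist g)⁻¹ := fun g =>
    Letters.ev_idx lettersHN_valid (fun g hg => absurd hg (List.not_mem_nil)) (fullHN g).1 (fullHN g).2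
  have a0 : evHN 0 = hX := (h .x).1
  have a1 : evHN 1 = hX⁻¹ := rfl
  have a2 : evHN 2 = hY := (h .y).1
  have a3 : evHN 3 = hY⁻¹ := rfl
  have a4 : evHN 4 = hZ := (h .z).1
  have a5 : evHN 5 = hZ⁻¹ := rfl
  have a6 : evHN 6 = hT := (h .t).1
  have a7 : evHN 7 = hT⁻¹ := rfl
  interval_cases x
  · rw [show lettersHN.ev imgTwist 0 = hX from rfl]; simp [sub, evW, a0]
  · rw [show lettersHN.ev imgTwist 1 = hX⁻¹ from rfl]; simp [sub, evW, a1]
  · rw [show lettersHN.ev imgTwist 2 = hY from rfl]; simp [sub, evW, a2]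
  · rw [show lettersHN.ev imgTwist 3 = hY⁻¹ from rfl]; simp [sub, evW, a3]
  · rw [show lettersHN.ev imgTwist 4 = hZ * hX ^ 2 from rfl]; simp [sub, evW, a4, a0, pow_two]
  · rw [show lettersHN.ev imgTwist 5 = (hZ * hX ^ 2)⁻¹ from rfl]
    simp [sub, evW, a5, a1, pow_two, mul_inv_rev, mul_assoc]
  · rw [show lettersHN.ev imgTwist 6 = hT ^ 2 from rfl]; simp [sub, evW, a6, pow_two]
  · rw [show lettersHN.ev imgTwist 7 = (hT ^ 2)⁻¹ from rfl]; simp [sub, evW, a7, pow_two]

theorem sub_lt : ∀ x < 8, ∀ y ∈ sub x, y < 8 := by decide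

theorem imgTwist_rho {w : List ℕ} (hw : w ∈ lettersHN.extraWords HN.extra) :
    rho (evW (lettersHN.ev imgTwist) w) = 1 := by
  have h := twist_mat_ok
  simp only [List.all_eq_true] at h
  obtain ⟨hlt, hp⟩ := check_spec mat_data_ok (h w hw)
  have hw8 : ∀ x ∈ w, x < 8 := by
    have hall : ((lettersHN.extraWords HN.extra).all fun w => w.all fun x => Nat.blt x 8) = true := by
      decide +kernel
    simp only [List.all_eq_true, Nat.blt_eq] at hall
    exact hall w hw
  have e : rho (evW (lettersHN.ev imgTwist) w) = evW (lettersHN.ev imgHN) (w.flatMap sub) := by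
    rw [evW_sub]
    simp only [evW, map_list_prod, List.map_map]
    refine congrArg List.prod (List.map_congr_left fun x hx => ?_)
    rw [Function.comp_apply, ev_twist (hw8 x hx)]
    simp only [evW, map_list_prod, List.map_map]
    exact congrArg List.prod (List.map_congr_left fun y hy => rho_evHN (sub_lt x (hw8 x hx) y hy))
  rw [e]
  apply Units.ext
  rw [Units.val_one, ← hp, evW, ← Units.coeHom_apply, map_list_prod, List.map_map]
  refine congrArg List.prod (List.map_congr_left fun x hx => ?_)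
  have hx8 : x < 8 := hlt x hx
  interval_cases x <;> rfl

theorem rho_injective [IsSimpleGroup Cfsg.Spor.HN] : Function.Injective rho := by
  rw [← MonoidHom.ker_eq_bot_iff]
  refine (IsSimpleGroup.eq_bot_or_eq_top_of_normal rho.ker inferInstance).resolve_right fun h => ?_
  have h0 : rho hX = 1 := MonoidHom.mem_ker.1 (h ▸ Subgroup.mem_top hX)
  rw [show rho hX = imgHN .x from PresentedGroup.toGroup.of imgHN_kills] at h0
  have hm : hnMat 0 = 1 := congrArg Units.val h0
  have hinv : hnMat 0 * hnMat 1 = 1 := mat_pair (by decide)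
  rw [hm, one_mul] at hinv
  have h' := congrFun (congrFun (hinv.trans hm.symm) ⟨77, by norm_num⟩) ⟨105, by norm_num⟩
  simp only [hnMat, mat, RingHom.mapMatrix_apply, Matrix.map_apply] at h'
  change ((coeff ((rowsOf HNMat.gens 1).get 77) 105 : ℕ) : ZMod 11) =
    ((coeff ((rowsOf HNMat.gens 0).get 77) 105 : ℕ) : ZMod 11) at h'
  rw [show coeff ((rowsOf HNMat.gens 1).get 77) 105 = 10 by decide +kernel,
    show coeff ((rowsOf HNMat.gens 0).get 77) 105 = 1 by decide +kernel] at h'
  exact absurd h' (by decide)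

variable [IsSimpleGroup Cfsg.Spor.HN]

theorem imgTwist_kills : ∀ r ∈ coxRelators HN.edges ∪ {r | r ∈ HN.extra}, FreeGroup.lift imgTwist r = 1 :=
  Letters.kills lettersHN_valid nodesHN_valid fullHN (fun g hg => absurd hg (List.not_mem_nil))
    (fun w hw => absurd (show w ∈ ([] : List (List ℕ)) from hw) (List.not_mem_nil))
    fun w hw => rho_injective (by rw [imgTwist_rho hw, map_one])

/-- the twist as an endomorphism -/
noncomputable def twistHom : Cfsg.Spor.HN →* Cfsg.Spor.HN := PresentedGroup.toGroup imgTwist_kills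

theorem twist_of (g : HN.Gen) : twistHom (PresentedGroup.of g) = imgTwist g :=
  PresentedGroup.toGroup.of imgTwist_kills

omit [IsSimpleGroup Cfsg.Spor.HN] in
theorem hX_ne : hX ≠ 1 := fun h => psi_sq_ne (by rw [map_pow, psi_gens.1, h, one_pow])

theorem twist_injective : Function.Injective twistHom := by
  rw [← MonoidHom.ker_eq_bot_iff]
  refine (IsSimpleGroup.eq_bot_or_eq_top_of_normal twistHom.ker inferInstance).resolve_right fun h => ?_
  have h0 : twistHom hX = 1 := MonoidHom.mem_ker.1 (h ▸ Subgroup.mem_top hX)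
  rw [twist_of] at h0
  exact hX_ne h0

variable [Finite Cfsg.Spor.HN]

/-- the twist -/
noncomputable def twist : MulAut Cfsg.Spor.HN :=
  MulEquiv.ofBijective twistHom (Finite.injective_iff_bijective.1 twist_injective)

theorem twist_apply (g : HN.Gen) : twist (PresentedGroup.of g) = imgTwist g := twist_of g

/-- The twist is not inner. -/
theorem twist_not_inner (hC : ∀ g : Cfsg.Spor.HN, g * hX ^ 2 = hX ^ 2 * g → g ∈ N) :
    twist ∉ Cfsg.Inn Cfsg.Spor.HN := by
  rintro ⟨g, hg⟩
  have e : ∀ h, g * PresentedGroup.of h * g⁻¹ = imgTwist h := fun h => by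
    rw [← twist_apply, ← hg]; rfl
  have ex : g * hX * g⁻¹ = hX := e .x
  obtain ⟨t, rfl⟩ := hC g (mul_inv_eq_iff_eq_mul.1 (by rw [← conj_pow, ex]))
  have hx : t * gx * t⁻¹ = gx := psi_injective (by rw [map_mul, map_mul, map_inv, psi_gens.1]; exact ex)
  have hy : t * gy * t⁻¹ = gy := psi_injective (by rw [map_mul, map_mul, map_inv, psi_gens.2.1]; exact e .y)
  have hz : t * gz * t⁻¹ = gz * gx ^ 2 := psi_injective (by
    rw [map_mul, map_mul, map_inv, map_mul, map_pow, psi_gens.1, psi_gens.2.2]; exact e .z)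
  have hphi : ∀ k : T, phi ((MulAut.conj t).toMonoidHom k) = phi ((MonoidHom.id T) k) := by
    have hcl : ∀ s ∈ ({gx, gy, gz} : Set T),
        phi ((MulAut.conj t).toMonoidHom s) = phi ((MonoidHom.id T) s) := by
      rintro s (rfl | rfl | rfl)
      · exact congrArg phi hx
      · exact congrArg phi hy
      · show phi (t * gz * t⁻¹) = phi gz
        rw [hz, map_mul, sq_map_one, mul_one]
    exact fun k => DFunLike.congr_fun (MonoidHom.eq_of_eqOn_dense closure_gens
      (f := phi.comp (MulAut.conj t).toMonoidHom) (g := phi.comp (MonoidHom.id T)) hcl) k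
  have hc := eq_on_K fun k _ => hphi k
  have ht : t ∈ K := mem_K_of_commute fun a ha => mul_inv_eq_iff_eq_mul.1 (hc a ha)
  have hcen : (⟨t, ht⟩ : K) ∈ sig.ker := center_K ▸ Subgroup.mem_center_iff.2 fun a =>
    Subtype.ext (mul_inv_eq_iff_eq_mul.1 (hc a a.2)).symm
  rw [sig_ker] at hcen
  have hz' : t * gz * t⁻¹ = gz :=
    mul_inv_eq_iff_eq_mul.2 (ker_commutes (show t ∈ phi.ker from hcen) gz).symm
  exact sq_ne (mul_eq_left.1 (hz.symm.trans hz'))

end CfsgLib.Presented.HNOut
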