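import Cfsg.Agent.Lib.Presented.HNOut.GraphCent
import Cfsg.Agent.Lib.Presented.HNOut.Twist
import Cfsg.Agent.Lib.Presented.HNIndex.Upper

/-!
The outer automorphism group of the presented Harada-Norton group has order two, given the index of the
subgroup on x, y, z and three facts about centralisers that are read off the action on its cosets.
-/
set_option autoImplicit false
set_option maxRecDepth 8000

namespace CfsgLib.Presented.HNOut

open HNxyz
open Cfsg.Spor

/-- Homomorphisms agreeing on the four generators are equal. -/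
theorem aut_ext {F H : MulAut Cfsg.Spor.HN} (hx : F hX = H hX) (hy : F hY = H hY) (hz : F hZ = H hZ)
    (ht : F hT = H hT) : F = H := by
  have e : F.toMonoidHom = H.toMonoidHom := PresentedGroup.ext fun g => by
    cases g
    · exact hx
    · exact hy
    · exact hz
    · exact ht
  exact MulEquiv.ext fun v => DFunLike.congr_fun e v

/-- what the action on the cosets has to supply -/
structure PointFacts : Prop where
  index : N.index = 1539000
  simple : IsSimpleGroup Cfsg.Spor.HN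
  centSq : ∀ g : Cfsg.Spor.HN, g * hX ^ 2 = hX ^ 2 * g → g ∈ N
  centA : ∀ g : Cfsg.Spor.HN, g * psi elA = psi elA * g → g ∈ N
  images : ∀ t z : Cfsg.Spor.HN, (∀ k ∈ HNIndex.gen HNIndex.cGens, Commute t (psi k)) → t ^ 5 = 1 → hX⁻¹ * t * hX * t ^ 2 = 1 →
    (z * t) ^ 3 = 1 → (z = hZ → t = hT ∨ t = hT⁻¹) ∧ (z = hZ * hX ^ 2 → t = hT ^ 2 ∨ t = (hT ^ 2)⁻¹)

variable (P₀ : PointFacts)

include P₀

theorem finite_HN : Finite Cfsg.Spor.HN :=
  Nat.finite_of_card_ne_zero (by rw [card_HN P₀.index]; norm_num)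

theorem orderOf_psi_A : orderOf (psi elA) = 11 := by
  rw [orderOf_injective psi psi_injective, orderOf_elA]

/-- an inner automorphism away, the central involution is fixed -/
theorem exists_fix_sq (φ : MulAut Cfsg.Spor.HN) : ∃ g, g * φ (hX ^ 2) * g⁻¹ = hX ^ 2 := by
  haveI := finite_HN P₀
  haveI : Fact (Nat.Prime 11) := ⟨by norm_num⟩
  have hA := orderOf_psi_A P₀
  have hφA : orderOf (φ (psi elA)) = 11 :=
    (orderOf_injective φ.toMonoidHom φ.injective _).trans hA
  have hfac : 11 ^ (Nat.card Cfsg.Spor.HN).factorization 11 = 11 := by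
    rw [card_HN P₀.index, show (273030912000000 : ℕ) = 11 * 24820992000000 by norm_num,
      Nat.factorization_mul (by norm_num) (by norm_num), Finsupp.add_apply,
      Nat.Prime.factorization_self (by norm_num),
      Nat.factorization_eq_zero_of_not_dvd (by norm_num), Nat.add_zero, pow_one]
  obtain ⟨g, hg⟩ := MulAction.exists_smul_eq Cfsg.Spor.HN
    (Sylow.ofCard (Subgroup.zpowers (φ (psi elA))) (by rw [Nat.card_zpowers, hφA, hfac]))
    (Sylow.ofCard (Subgroup.zpowers (psi elA)) (by rw [Nat.card_zpowers, hA, hfac]))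
  refine ⟨g, ?_⟩
  let F : MulAut Cfsg.Spor.HN := MulAut.conj g * φ
  show F (hX ^ 2) = hX ^ 2
  have hg' := congrArg (fun Q : Sylow 11 Cfsg.Spor.HN => (Q : Subgroup Cfsg.Spor.HN)) hg
  have hmem : psi elA ∈ Subgroup.zpowers (F (psi elA)) := by
    have h1 : psi elA ∈ ((Sylow.ofCard (Subgroup.zpowers (psi elA)) (by rw [Nat.card_zpowers, hA, hfac]) :
        Sylow 11 Cfsg.Spor.HN) : Subgroup Cfsg.Spor.HN) := Subgroup.mem_zpowers _
    rw [← hg'] at h1
    obtain ⟨w, hw, hwe⟩ := h1
    obtain ⟨i, rfl⟩ := Subgroup.mem_zpowers_iff.1 hw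
    exact Subgroup.mem_zpowers_iff.2 ⟨i, (map_zpow (MulAut.conj g) _ i).symm.trans hwe⟩
  obtain ⟨i, hi⟩ := Subgroup.mem_zpowers_iff.1 hmem
  have hsq : Commute (psi (gx ^ 2)) (psi elA) :=
    (Commute.map (Subgroup.mem_center_iff.1 sq_central elA).symm psi)
  have hsqX : psi (gx ^ 2) = hX ^ 2 := by rw [map_pow, psi_gens.1]
  rw [hsqX] at hsq
  have hc : Commute (F (hX ^ 2)) (psi elA) := by
    rw [← hi]
    exact (hsq.map F).zpow_right i
  obtain ⟨n, hn⟩ := P₀.centA _ hc.eq
  rw [← hn, ← hsqX]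
  refine congrArg psi (invol_cent_A ?_ ?_ ?_)
  · refine psi_injective ?_
    rw [map_mul, map_mul, hn]
    exact hc.eq
  · refine psi_injective ?_
    rw [map_pow, hn, ← map_pow, ← hsqX, ← map_pow, ← pow_mul, x_four, map_one, map_one]
  · intro h
    rw [h, map_one, eq_comm, map_eq_one_iff F F.injective] at hn
    exact sq_ne (psi_injective (by rw [hsqX, hn, map_one]))

theorem comm_sq_of_mem {g : Cfsg.Spor.HN} (hg : g ∈ N) : g * hX ^ 2 = hX ^ 2 * g := by
  obtain ⟨t, rfl⟩ := hg
  rw [← psi_gens.1, ← map_pow, ← map_mul, ← map_mul, Subgroup.mem_center_iff.1 sq_central t]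

/-- an automorphism fixing the central involution keeps the subgroup -/
theorem map_N {F : MulAut Cfsg.Spor.HN} (hF : F (hX ^ 2) = hX ^ 2) : N.map F.toMonoidHom = N := by
  refine le_antisymm ?_ fun g hg => ?_
  · rintro _ ⟨g, hg, rfl⟩
    refine P₀.centSq _ ?_
    have := congrArg F (comm_sq_of_mem P₀ hg)
    rwa [map_mul, map_mul, hF] at this
  · refine ⟨F.symm g, P₀.centSq _ (F.injective ?_), F.apply_symm_apply g⟩
    rw [map_mul, map_mul, hF, F.apply_symm_apply]
    exact comm_sq_of_mem P₀ hg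

/-- every automorphism is inner or the twist followed by an inner one -/
theorem aut_cases (φ : MulAut Cfsg.Spor.HN) :
    haveI := finite_HN P₀
    haveI := P₀.simple
    (φ : Cfsg.Out Cfsg.Spor.HN) = 1 ∨ (φ : Cfsg.Out Cfsg.Spor.HN) = (twist : MulAut Cfsg.Spor.HN) := by
  haveI := finite_HN P₀
  haveI := P₀.simple
  have hconj : ∀ g, ((MulAut.conj g : MulAut Cfsg.Spor.HN) : Cfsg.Out Cfsg.Spor.HN) = 1 := fun g =>
    (QuotientGroup.eq_one_iff _).2 ⟨g, rfl⟩
  obtain ⟨g, hg⟩ := exists_fix_sq P₀ φ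
  let F : MulAut Cfsg.Spor.HN := MulAut.conj g * φ
  have hF : F (hX ^ 2) = hX ^ 2 := hg
  let e : T ≃* N := MonoidHom.ofInjective psi_injective
  let α : MulAut T := e.trans (((F.subgroupMap N).trans (MulEquiv.subgroupCongr (map_N P₀ hF))).trans e.symm)
  have hα : ∀ t, psi (α t) = F (psi t) := fun t =>
    (congrArg Subtype.val (e.apply_symm_apply _)).trans rfl
  have hαs : α (gx ^ 2) = gx ^ 2 := psi_injective (by rw [hα, map_pow psi, psi_gens.1, hF])
  obtain ⟨n, hnx, hny, hnz⟩ := aut_normal_form α hαs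
  let H : MulAut Cfsg.Spor.HN := MulAut.conj (psi n) * F
  have hH : ∀ t, H (psi t) = psi (n * α t * n⁻¹) := fun t => by
    rw [map_mul, map_mul, map_inv, hα]
    rfl
  have Hx : H hX = hX := by
    have := hH gx; rwa [hnx, psi_gens.1] at this
  have Hy : H hY = hY := by
    have := hH gy; rwa [hny, psi_gens.2.1] at this
  have Hz : H hZ = hZ ∨ H hZ = hZ * hX ^ 2 := by
    have := hH gz
    rw [psi_gens.2.2] at this
    rcases hnz with h | h <;> rw [h] at this
    · exact Or.inl (this.trans psi_gens.2.2)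
    · exact Or.inr (this.trans (by rw [map_mul, map_pow, psi_gens.1, psi_gens.2.2]))
  obtain ⟨-, rx, rz, r5, -⟩ := rels_map H.toMonoidHom
  simp only [MulEquiv.coe_toMonoidHom, Hx] at rx rz r5
  have hty : ∀ k ∈ HNIndex.gen HNIndex.cGens, Commute (H hT) (psi k) := by
    intro k hk
    have hfix : H (psi k) = psi k :=
      (show HNIndex.gen HNIndex.cGens ≤ (H.toMonoidHom.comp psi).eqLocus psi from ?_) hk
    · have e6 : HNIndex.evH 6 = hT := (evHN_idx .t).1
      have := (HNIndex.cW_comm_T hk).map H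
      rw [hfix, e6] at this
      exact this.symm
    · rw [HNIndex.gen, Subgroup.closure_le]
      rintro _ ⟨w, hw, rfl⟩
      have hc := HNIndex.cGens_ok
      simp only [Bool.and_eq_true] at hc
      obtain ⟨q, hq, rfl⟩ := List.getElem_of_mem hw
      have hq4 : q < 4 := by rw [← Nat.eq_of_beq_eq_true hc.1]; exact hq
      have he := List.all_eq_true.1 HNIndex.cGens_comm q (List.mem_range.2 hq4)
      rw [List.getD_eq_getElem _ _ hq] at he
      show H (psi (evW HNxyz.ev _)) = psi (evW HNxyz.ev _)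
      rw [HNIndex.eqT_spec he]
      have hlet : ∀ q < 4, ∀ x ∈ HNIndex.cWords.getD q [], x < 4 := by decide
      generalize hwd : HNIndex.cWords.getD q [] = v
      have hv : ∀ x ∈ v, x < 4 := hwd ▸ hlet q hq4
      clear hwd he
      induction v with
      | nil => simp
      | cons x v ih =>
        rw [evW_cons, map_mul, map_mul, ih fun y hy => hv y (List.mem_cons_of_mem _ hy)]
        obtain ⟨h0, h1, h2, h3, -, -⟩ := ev_vals
        have hx4 := hv x List.mem_cons_self
        congr 1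
        interval_cases x
        · rw [h0, psi_gens.1, Hx]
        · rw [h1, map_inv, psi_gens.1, map_inv, Hx]
        · rw [h2, psi_gens.2.1, Hy]
        · rw [h3, map_inv, psi_gens.2.1, map_inv, Hy]
  obtain ⟨im1, im2⟩ := P₀.images _ _ hty r5 rx rz
  have hc2 : hX ^ 2 * hT * (hX ^ 2)⁻¹ = hT⁻¹ := by
    obtain ⟨-, e1, -, e5, -⟩ := rels_map (MonoidHom.id Cfsg.Spor.HN)
    simp only [MonoidHom.id_apply] at e1 e5
    have c1 : hX⁻¹ * hT * hX = (hT ^ 2)⁻¹ := eq_inv_of_mul_eq_one_left e1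
    have c2 : hX⁻¹ * hT⁻¹ * hX = hT ^ 2 := by
      rw [← inv_inv (hT ^ 2), ← c1]; group
    have c4 : (hX ^ 2)⁻¹ * hT⁻¹ * hX ^ 2 = hT := by
      calc (hX ^ 2)⁻¹ * hT⁻¹ * hX ^ 2 = hX⁻¹ * (hX⁻¹ * hT⁻¹ * hX) * hX := by simp [pow_two, mul_assoc]
        _ = (hX⁻¹ * hT * hX) * (hX⁻¹ * hT * hX) := by rw [c2]; simp [pow_two, mul_assoc]
        _ = (hT ^ 4)⁻¹ := by rw [c1]; group
        _ = hT := inv_eq_of_mul_eq_one_right (by rw [← pow_succ]; exact e5)
    conv_lhs => rw [← c4]
    group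
  have hsy : hX ^ 2 * hY * (hX ^ 2)⁻¹ = hY :=
    mul_inv_eq_iff_eq_mul.2 (comm_sq_of_mem P₀ ⟨gy, psi_gens.2.1⟩).symm
  have hsz : hX ^ 2 * hZ * (hX ^ 2)⁻¹ = hZ :=
    mul_inv_eq_iff_eq_mul.2 (comm_sq_of_mem P₀ ⟨gz, psi_gens.2.2⟩).symm
  have hsx : hX ^ 2 * hX * (hX ^ 2)⁻¹ = hX := by group
  have hout : (φ : Cfsg.Out Cfsg.Spor.HN) = (H : MulAut Cfsg.Spor.HN) := by
    show _ = ((MulAut.conj (psi n) * (MulAut.conj g * φ) : MulAut Cfsg.Spor.HN) : Cfsg.Out Cfsg.Spor.HN)
    rw [QuotientGroup.mk_mul, QuotientGroup.mk_mul, hconj, hconj, one_mul, one_mul]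
  rw [hout]
  rcases Hz with Hz | Hz
  · left
    rcases im1 Hz with Ht | Ht
    · rw [show H = 1 from aut_ext Hx Hy Hz Ht]
      rfl
    · rw [show H = MulAut.conj (hX ^ 2) from aut_ext (Hx.trans hsx.symm) (Hy.trans hsy.symm) (Hz.trans hsz.symm)
        (Ht.trans hc2.symm)]
      exact hconj _
  · right
    rcases im2 Hz with Ht | Ht
    · rw [show H = twist from aut_ext (Hx.trans (twist_apply .x).symm) (Hy.trans (twist_apply .y).symm)
        (Hz.trans (twist_apply .z).symm) (Ht.trans (twist_apply .t).symm)]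
    · have hs2 : hX ^ 2 * (hZ * hX ^ 2) * (hX ^ 2)⁻¹ = hZ * hX ^ 2 := by
        rw [conj_mul.symm, hsz]; group
      have ht2 : hX ^ 2 * hT ^ 2 * (hX ^ 2)⁻¹ = (hT ^ 2)⁻¹ := by
        rw [← conj_pow, hc2, inv_pow]
      rw [show H = MulAut.conj (hX ^ 2) * twist from aut_ext
        (Hx.trans ((congrArg (MulAut.conj (hX ^ 2)) (twist_apply .x)).trans hsx).symm)
        (Hy.trans ((congrArg (MulAut.conj (hX ^ 2)) (twist_apply .y)).trans hsy).symm)
        (Hz.trans ((congrArg (MulAut.conj (hX ^ 2)) (twist_apply .z)).trans hs2).symm)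
        (Ht.trans ((congrArg (MulAut.conj (hX ^ 2)) (twist_apply .t)).trans ht2).symm),
        QuotientGroup.mk_mul, hconj, one_mul]

/-- **The outer automorphism group has order two.** -/
theorem card_out_of_facts : Nat.card (Cfsg.Out Cfsg.Spor.HN) = 2 := by
  haveI := finite_HN P₀
  haveI := P₀.simple
  refine le_antisymm ?_ (Schur.two_le_card_out twist (twist_not_inner P₀.centSq))
  have hsurj : Function.Surjective (fun b : Bool => cond b (1 : Cfsg.Out Cfsg.Spor.HN) (twist : MulAut Cfsg.Spor.HN)) := by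
    intro q
    induction q using QuotientGroup.induction_on with
    | _ φ => exact (aut_cases P₀ φ).elim (fun h => ⟨true, h.symm⟩) fun h => ⟨false, h.symm⟩
  exact (Nat.card_le_card_of_surjective _ hsurj).trans_eq (by simp)

end CfsgLib.Presented.HNOut
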